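import Groth.Agent.GerbeExtLib.Fib
import Groth.Agent.GenBCLib.PullOn
import Groth.Agent.FamilyDesc.Effective
import Groth.Agent.PullbackMod.Stalk
import Mathlib.RingTheory.Flat.FaithfullyFlat.Basic

/-!
# Restriction of sections along arrows, and its adjoint
-/

set_option autoImplicit false
set_option backward.isDefEq.respectTransparency false
set_option linter.style.haveILetI false
set_option maxHeartbeats 800000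

universe w v u

open CategoryTheory CategoryTheory.Limits AlgebraicGeometry TopologicalSpace Opposite
open Groth.Agent.PullbackMod Groth.Agent.CohBase Groth.Agent.FpqcQCoh

noncomputable section

namespace Groth.Agent.GerbeExtLib

/-- Morphisms out of an inverse image are determined on pulled back sections. -/
theorem hom_ext_pullMap {X Y : Scheme.{u}} (g : Y ⟶ X) (M : X.Modules) {N : Y.Modules}
    {p q : (Scheme.Modules.pullback g).obj M ⟶ N}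
    (h : ∀ (W : X.Opens) (m : Γ(M, W)), p.app (g ⁻¹ᵁ W) (pullMap g M le_rfl m) =
      q.app (g ⁻¹ᵁ W) (pullMap g M le_rfl m)) : p = q := by
  refine ((Scheme.Modules.pullbackPushforwardAdjunction g).homEquiv _ _).injective ?_
  rw [Adjunction.homEquiv_unit, Adjunction.homEquiv_unit]
  ext W m
  show p.app (g ⁻¹ᵁ W) (((Scheme.Modules.pullbackPushforwardAdjunction g).unit.app M).app W m) =
    q.app (g ⁻¹ᵁ W) (((Scheme.Modules.pullbackPushforwardAdjunction g).unit.app M).app W m)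
  rw [show ((Scheme.Modules.pullbackPushforwardAdjunction g).unit.app M).app W m =
    pullMap g M (le_refl (g ⁻¹ᵁ W)) m from (restr_self _ le_rfl _).symm]
  exact h W m

theorem injective_pullMap_id {X : Scheme.{u}} (M : X.Modules) {V : X.Opens} :
    Function.Injective (pullMap (𝟙 X) M (W := V) (W' := V) le_rfl) := by
  intro a b hab
  have e : ∀ c : Γ(M, V), ((Scheme.Modules.pullbackId X).hom.app M).app V
      (pullMap (𝟙 X) M (W := V) (W' := V) le_rfl c) = c := fun c =>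
    (GenBCLib.pullMap_id M (W := V) (W' := V) le_rfl le_rfl c).trans (restr_self _ le_rfl c)
  exact (e a).symm.trans ((congrArg _ hab).trans (e b))

/-- A flat inverse image is injective on stalks. -/
theorem injective_pullStalk {X X' : Scheme.{u}} (g : X' ⟶ X) [Flat g] (M : X.Modules) [Coh.IsQCoh M] (x : X') :
    Function.Injective (pullStalk g M x) := by
  letI : Algebra (X.presheaf.stalk (g x)) (X'.presheaf.stalk x) := (g.stalkMap x).hom.toAlgebra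
  letI := Module.compHom (((Scheme.Modules.pullback g).obj M).presheaf.stalk x) (g.stalkMap x).hom
  haveI : IsScalarTower (X.presheaf.stalk (g x)) (X'.presheaf.stalk x)
      (((Scheme.Modules.pullback g).obj M).presheaf.stalk x) := .of_algebraMap_smul fun _ _ => rfl
  have hb := isBaseChange_pullStalkL g M x
  haveI : IsLocalHom (algebraMap (X.presheaf.stalk (g x)) (X'.presheaf.stalk x)) :=
    inferInstanceAs (IsLocalHom (g.stalkMap x).hom)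
  haveI : Module.Flat (X.presheaf.stalk (g x)) (X'.presheaf.stalk x) := Flat.stalkMap g x
  haveI := Module.FaithfullyFlat.of_flat_of_isLocalHom (A := X.presheaf.stalk (g x)) (B := X'.presheaf.stalk x)
  intro a b hab
  apply Module.FaithfullyFlat.tensorProduct_mk_injective (A := X.presheaf.stalk (g x)) (B := X'.presheaf.stalk x)
    (M.presheaf.stalk (g x))
  apply hb.equiv.injective
  simp only [TensorProduct.mk_apply, IsBaseChange.equiv_tmul, one_smul]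
  exact hab

variable {S : Scheme.{u}} {𝒵 : BasedCategory.{v, w} (Over S)} (F : StMod.Mod 𝒵) {ξ'' ξ' ξ : 𝒵.obj}

/-- Restriction of sections along an arrow. -/
def res (φ : ξ' ⟶ ξ) {U : (StMod.sch 𝒵 ξ).Opens} {U' : (StMod.sch 𝒵 ξ').Opens}
    (h : U' ≤ StMod.bmap 𝒵 φ ⁻¹ᵁ U) : Γ(F.obj ξ, U) →+ Γ(F.obj ξ', U') :=
  ((F.obj ξ').presheaf.map (homOfLE h).op).hom.comp ((F.map φ rfl).app U).hom

theorem res_eq_map (φ : ξ' ⟶ ξ) {g : StMod.sch 𝒵 ξ' ⟶ StMod.sch 𝒵 ξ} (hg : StMod.bmap 𝒵 φ = g)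
    {U : (StMod.sch 𝒵 ξ).Opens} {U' : (StMod.sch 𝒵 ξ').Opens} (h : U' ≤ StMod.bmap 𝒵 φ ⁻¹ᵁ U)
    (h' : U' ≤ g ⁻¹ᵁ U) (s : Γ(F.obj ξ, U)) :
    res F φ h s = (F.obj ξ').presheaf.map (homOfLE h').op ((F.map φ hg).app U s) := by
  subst hg
  rfl

theorem res_congr {φ φ' : ξ' ⟶ ξ} (e : φ = φ') {U : (StMod.sch 𝒵 ξ).Opens} {U' : (StMod.sch 𝒵 ξ').Opens}
    (h : U' ≤ StMod.bmap 𝒵 φ ⁻¹ᵁ U) (h' : U' ≤ StMod.bmap 𝒵 φ' ⁻¹ᵁ U) (s : Γ(F.obj ξ, U)) :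
    res F φ h s = res F φ' h' s := by
  subst e
  rfl

/-- Restricting afterwards. -/
theorem restr_res (φ : ξ' ⟶ ξ) {U : (StMod.sch 𝒵 ξ).Opens} {U' V : (StMod.sch 𝒵 ξ').Opens}
    (h : U' ≤ StMod.bmap 𝒵 φ ⁻¹ᵁ U) (hV : V ≤ U') (s : Γ(F.obj ξ, U)) :
    (F.obj ξ').presheaf.map (homOfLE hV).op (res F φ h s) = res F φ (hV.trans h) s :=
  restr_trans (F.obj ξ') h hV _

/-- Restricting beforehand. -/
theorem res_restr (φ : ξ' ⟶ ξ) {U V : (StMod.sch 𝒵 ξ).Opens} {U' : (StMod.sch 𝒵 ξ').Opens} (hV : V ≤ U)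
    (h : U' ≤ StMod.bmap 𝒵 φ ⁻¹ᵁ V) (s : Γ(F.obj ξ, U)) :
    res F φ h ((F.obj ξ).presheaf.map (homOfLE hV).op s) =
      res F φ (h.trans ((StMod.bmap 𝒵 φ).preimage_mono hV)) s := by
  refine (congrArg _ (QCohLib.app_res (F.map φ rfl) hV s)).trans ?_
  exact restr_trans (F.obj ξ') ((StMod.bmap 𝒵 φ).preimage_mono hV) h _

theorem res_smul (φ : ξ' ⟶ ξ) {U : (StMod.sch 𝒵 ξ).Opens} {U' : (StMod.sch 𝒵 ξ').Opens}
    (h : U' ≤ StMod.bmap 𝒵 φ ⁻¹ᵁ U) (r : Γ(StMod.sch 𝒵 ξ, U)) (s : Γ(F.obj ξ, U)) :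
    res F φ h (r • s) = (StMod.bmap 𝒵 φ).appLE U U' h r • res F φ h s := by
  refine (congrArg _ (Scheme.Modules.Hom.app_smul (F.map φ rfl) r s)).trans ?_
  exact (F.obj ξ').val.map_smul (homOfLE h).op _ _

theorem res_id {U U' : (StMod.sch 𝒵 ξ).Opens} (h : U' ≤ StMod.bmap 𝒵 (𝟙 ξ) ⁻¹ᵁ U) (h' : U' ≤ U)
    (s : Γ(F.obj ξ, U)) : res F (𝟙 ξ) h s = (F.obj ξ).presheaf.map (homOfLE h').op s := by
  rw [res_eq_map F (𝟙 ξ) (StMod.bmap_id ξ) h h']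
  exact congrArg _ (ConcreteCategory.congr_hom (F.map_id_app ξ U) s)

theorem res_comp (ψ : ξ'' ⟶ ξ') (φ : ξ' ⟶ ξ) {U : (StMod.sch 𝒵 ξ).Opens} {U' : (StMod.sch 𝒵 ξ').Opens}
    {U'' : (StMod.sch 𝒵 ξ'').Opens} (h : U' ≤ StMod.bmap 𝒵 φ ⁻¹ᵁ U) (h' : U'' ≤ StMod.bmap 𝒵 ψ ⁻¹ᵁ U')
    (h'' : U'' ≤ StMod.bmap 𝒵 (ψ ≫ φ) ⁻¹ᵁ U) (s : Γ(F.obj ξ, U)) :
    res F (ψ ≫ φ) h'' s = res F ψ h' (res F φ h s) := by
  have hle : U'' ≤ (StMod.bmap 𝒵 ψ ≫ StMod.bmap 𝒵 φ) ⁻¹ᵁ U :=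
    h'.trans ((StMod.bmap 𝒵 ψ).preimage_mono h)
  rw [res_eq_map F (ψ ≫ φ) (g := StMod.bmap 𝒵 ψ ≫ StMod.bmap 𝒵 φ) (StMod.bmap_comp ψ φ) h'' hle]
  have e := ConcreteCategory.congr_hom (StMod.Mod.map_comp_app F ψ φ rfl rfl U) s
  refine (congrArg _ e).trans ?_
  show _ = res F ψ h' ((F.obj ξ').presheaf.map (homOfLE h).op ((F.map φ rfl).app U s))
  rw [res_restr]
  rfl

/-- The adjoint of a comparison map. -/
def ad (φ : ξ' ⟶ ξ) : (Scheme.Modules.pullback (StMod.bmap 𝒵 φ)).obj (F.obj ξ) ⟶ F.obj ξ' :=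
  ((Scheme.Modules.pullbackPushforwardAdjunction (StMod.bmap 𝒵 φ)).homEquiv _ _).symm (F.map φ rfl)

theorem ad_pullMap (φ : ξ' ⟶ ξ) {U : (StMod.sch 𝒵 ξ).Opens} {U' : (StMod.sch 𝒵 ξ').Opens}
    (h : U' ≤ StMod.bmap 𝒵 φ ⁻¹ᵁ U) (s : Γ(F.obj ξ, U)) :
    (ad F φ).app U' (pullMap (StMod.bmap 𝒵 φ) (F.obj ξ) h s) = res F φ h s := by
  have e : (Scheme.Modules.pullbackPushforwardAdjunction (StMod.bmap 𝒵 φ)).unit.app (F.obj ξ) ≫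
      (Scheme.Modules.pushforward (StMod.bmap 𝒵 φ)).map (ad F φ) = F.map φ rfl :=
    (Adjunction.homEquiv_unit _ _ _ _).symm.trans (Equiv.apply_symm_apply _ _)
  refine (QCohLib.app_res (ad F φ) h _).trans (congrArg _ ?_)
  exact ConcreteCategory.congr_hom (congrArg (fun p : F.obj ξ ⟶ _ => p.app U) e) s

theorem isIso_ad (hF : F.IsCartesian) (φ : ξ' ⟶ ξ) : IsIso (ad F φ) := hF φ rfl

/-- The comparison of inverse images to a scheme over an arrow. -/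
def cA (φ : ξ' ⟶ ξ) {W : Scheme.{u}} (e : W ⟶ StMod.sch 𝒵 ξ') (a : W ⟶ StMod.sch 𝒵 ξ)
    (he : e ≫ StMod.bmap 𝒵 φ = a) :
    (Scheme.Modules.pullback a).obj (F.obj ξ) ⟶ (Scheme.Modules.pullback e).obj (F.obj ξ') :=
  (cmpIso (F.obj ξ) e he).inv ≫ (Scheme.Modules.pullback e).map (ad F φ)

theorem isIso_cA (hF : F.IsCartesian) (φ : ξ' ⟶ ξ) {W : Scheme.{u}} (e : W ⟶ StMod.sch 𝒵 ξ')
    (a : W ⟶ StMod.sch 𝒵 ξ) (he : e ≫ StMod.bmap 𝒵 φ = a) : IsIso (cA F φ e a he) := by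
  haveI := isIso_ad F hF φ
  unfold cA
  infer_instance

theorem cA_pullMap (φ : ξ' ⟶ ξ) {W : Scheme.{u}} (e : W ⟶ StMod.sch 𝒵 ξ') (a : W ⟶ StMod.sch 𝒵 ξ)
    (he : e ≫ StMod.bmap 𝒵 φ = a) {U : (StMod.sch 𝒵 ξ).Opens} {U' : (StMod.sch 𝒵 ξ').Opens} {V : W.Opens}
    (hU : U' ≤ StMod.bmap 𝒵 φ ⁻¹ᵁ U) (hV : V ≤ e ⁻¹ᵁ U') (ha : V ≤ a ⁻¹ᵁ U) (s : Γ(F.obj ξ, U)) :
    (cA F φ e a he).app V (pullMap a (F.obj ξ) ha s) = pullMap e (F.obj ξ') hV (res F φ hU s) := by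
  show ((Scheme.Modules.pullback e).map (ad F φ)).app V
    ((cmpIso (F.obj ξ) e he).inv.app V (pullMap a (F.obj ξ) ha s)) = _
  rw [FamilyDesc.cmp_inv_pullMap e he hU hV ha, pullMap_natural, ad_pullMap]

theorem cA_comp (m : ξ'' ⟶ ξ') (φ : ξ' ⟶ ξ) {W : Scheme.{u}} (e : W ⟶ StMod.sch 𝒵 ξ'')
    (e' : W ⟶ StMod.sch 𝒵 ξ') (hm : e ≫ StMod.bmap 𝒵 m = e') (a : W ⟶ StMod.sch 𝒵 ξ)
    (he' : e' ≫ StMod.bmap 𝒵 φ = a) :
    cA F (m ≫ φ) e a (by rw [StMod.bmap_comp, ← Category.assoc, hm, he']) = cA F φ e' a he' ≫ cA F m e e' hm := by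
  refine hom_ext_pullMap a _ fun U s => ?_
  have h1 : a ⁻¹ᵁ U ≤ e ⁻¹ᵁ StMod.bmap 𝒵 (m ≫ φ) ⁻¹ᵁ U := by
    subst he'; subst hm; rw [StMod.bmap_comp]; exact le_rfl
  have h2 : a ⁻¹ᵁ U ≤ e' ⁻¹ᵁ StMod.bmap 𝒵 φ ⁻¹ᵁ U := by subst he'; exact le_rfl
  have h3 : StMod.bmap 𝒵 (m ≫ φ) ⁻¹ᵁ U ≤ StMod.bmap 𝒵 m ⁻¹ᵁ StMod.bmap 𝒵 φ ⁻¹ᵁ U := by
    rw [StMod.bmap_comp]; exact le_rfl
  rw [cA_pullMap F (m ≫ φ) e a _ le_rfl h1, Scheme.Modules.Hom.comp_app, ConcreteCategory.comp_apply,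
    cA_pullMap F φ e' a he' le_rfl h2, cA_pullMap F m e e' hm h3 h1, ← res_comp]

theorem vMap_pullMap {Z Y T : Scheme.{u}} (N : Y.Modules) {p : Z ⟶ Y} (t : T ⟶ Z) {h : T ⟶ Y} (hh : t ≫ p = h)
    {W : Y.Opens} {U : Z.Opens} (hU : U ≤ p ⁻¹ᵁ W) (hW : t ⁻¹ᵁ U ≤ h ⁻¹ᵁ W) (x : Γ(N, W)) :
    (vMap N t hh).app U (pullMap p N hU x) = pullMap h N hW x :=
  (restr_self _ le_rfl _).symm.trans (plMap_pullMap N t hh hU le_rfl hW x)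

theorem cA_vMap (φ : ξ' ⟶ ξ) {W W' : Scheme.{u}} (g : W' ⟶ W) (e : W ⟶ StMod.sch 𝒵 ξ') (a : W ⟶ StMod.sch 𝒵 ξ)
    (he : e ≫ StMod.bmap 𝒵 φ = a) (e' : W' ⟶ StMod.sch 𝒵 ξ') (hge : g ≫ e = e') (a' : W' ⟶ StMod.sch 𝒵 ξ)
    (hga : g ≫ a = a') :
    cA F φ e a he ≫ vMap (F.obj ξ') g hge =
      vMap (F.obj ξ) g hga ≫ (Scheme.Modules.pushforward g).map
        (cA F φ e' a' (by rw [← hge, Category.assoc, he, hga])) := by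
  refine hom_ext_pullMap a _ fun U s => ?_
  have h2 : a ⁻¹ᵁ U ≤ e ⁻¹ᵁ StMod.bmap 𝒵 φ ⁻¹ᵁ U := by subst he; exact le_rfl
  have h4 : g ⁻¹ᵁ (a ⁻¹ᵁ U) ≤ a' ⁻¹ᵁ U := by subst hga; exact le_rfl
  have h5 : g ⁻¹ᵁ (a ⁻¹ᵁ U) ≤ e' ⁻¹ᵁ StMod.bmap 𝒵 φ ⁻¹ᵁ U := by subst hge; subst he; exact le_rfl
  rw [Scheme.Modules.Hom.comp_app, Scheme.Modules.Hom.comp_app, ConcreteCategory.comp_apply,
    ConcreteCategory.comp_apply, Scheme.Modules.pushforward_map_app, cA_pullMap F φ e a he le_rfl h2,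
    vMap_pullMap (F.obj ξ') g hge h2 h5]
  refine Eq.trans ?_ (congrArg _ (vMap_pullMap (F.obj ξ) g hga le_rfl h4 s).symm)
  exact (cA_pullMap F φ e' a' _ le_rfl h5 h4 s).symm

theorem app_plMap_of_eq {S₀ Z T : Scheme.{u}} (M : S₀.Modules) {g : Z ⟶ S₀} (t : T ⟶ Z) {h : T ⟶ S₀}
    (e : t ≫ g = h) {N : T.Modules} (P : (Scheme.Modules.pullback h).obj M ⟶ N)
    (Q : (Scheme.Modules.pullback g).obj M ⟶ (Scheme.Modules.pushforward t).obj N)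
    (hPQ : vMap M t e ≫ (Scheme.Modules.pushforward t).map P = Q) {U : Z.Opens} {V : T.Opens}
    (hV : V ≤ t ⁻¹ᵁ U) (y : Γ((Scheme.Modules.pullback g).obj M, U)) :
    P.app V (plMap M t e hV y) = N.presheaf.map (homOfLE hV).op (Q.app U y) := by
  subst hPQ
  exact QCohLib.app_res P hV _

theorem homEquiv_app {S₀ T : Scheme.{u}} (g : T ⟶ S₀) (M : S₀.Modules) {N : T.Modules}
    (P : (Scheme.Modules.pullback g).obj M ⟶ N) {U : S₀.Opens} {V : T.Opens} (hV : V ≤ g ⁻¹ᵁ U) (s : Γ(M, U)) :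
    N.presheaf.map (homOfLE hV).op (((Scheme.Modules.pullbackPushforwardAdjunction g).homEquiv _ _ P).app U s) =
      P.app V (pullMap g M hV s) := by
  rw [Adjunction.homEquiv_unit]
  exact (QCohLib.app_res P hV _).symm

theorem vMap_cA (m : ξ'' ⟶ ξ') (φ : ξ' ⟶ ξ) {W : Scheme.{u}} (e : W ⟶ StMod.sch 𝒵 ξ'')
    (a : W ⟶ StMod.sch 𝒵 ξ') (hm : e ≫ StMod.bmap 𝒵 m = a) (h : W ⟶ StMod.sch 𝒵 ξ)
    (ha : a ≫ StMod.bmap 𝒵 φ = h) (he : e ≫ StMod.bmap 𝒵 (m ≫ φ) = h) :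
    vMap (F.obj ξ) a ha ≫ (Scheme.Modules.pushforward a).map (cA F (m ≫ φ) e h he) =
      ad F φ ≫ (Scheme.Modules.pullbackPushforwardAdjunction a).homEquiv _ _ (cA F m e a hm) := by
  refine hom_ext_pullMap (StMod.bmap 𝒵 φ) _ fun U₀ s => ?_
  have g1 : a ⁻¹ᵁ StMod.bmap 𝒵 φ ⁻¹ᵁ U₀ ≤ h ⁻¹ᵁ U₀ := by subst ha; exact le_rfl
  have g2 : a ⁻¹ᵁ StMod.bmap 𝒵 φ ⁻¹ᵁ U₀ ≤ e ⁻¹ᵁ StMod.bmap 𝒵 (m ≫ φ) ⁻¹ᵁ U₀ := by
    subst hm; rw [StMod.bmap_comp]; exact le_rfl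
  have g3 : StMod.bmap 𝒵 (m ≫ φ) ⁻¹ᵁ U₀ ≤ StMod.bmap 𝒵 m ⁻¹ᵁ StMod.bmap 𝒵 φ ⁻¹ᵁ U₀ := by
    rw [StMod.bmap_comp]; exact le_rfl
  show (cA F (m ≫ φ) e h he).app (a ⁻¹ᵁ StMod.bmap 𝒵 φ ⁻¹ᵁ U₀)
      ((vMap (F.obj ξ) a ha).app _ (pullMap (StMod.bmap 𝒵 φ) (F.obj ξ) le_rfl s)) =
    ((Scheme.Modules.pullbackPushforwardAdjunction a).homEquiv _ _ (cA F m e a hm)).app _
      ((ad F φ).app _ (pullMap (StMod.bmap 𝒵 φ) (F.obj ξ) le_rfl s))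
  rw [vMap_pullMap_preimage, cA_pullMap F (m ≫ φ) e h he le_rfl g2, ad_pullMap,
    res_comp F m φ (U' := StMod.bmap 𝒵 φ ⁻¹ᵁ U₀) le_rfl g3 le_rfl, ← cA_pullMap F m e a hm g3 g2 le_rfl,
    ← homEquiv_app a (F.obj ξ') (cA F m e a hm) le_rfl, restr_self]

theorem cA_plMap (m : ξ'' ⟶ ξ') (φ : ξ' ⟶ ξ) {W : Scheme.{u}} (e : W ⟶ StMod.sch 𝒵 ξ'')
    (a : W ⟶ StMod.sch 𝒵 ξ') (hm : e ≫ StMod.bmap 𝒵 m = a) (h : W ⟶ StMod.sch 𝒵 ξ)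
    (ha : a ≫ StMod.bmap 𝒵 φ = h) (he : e ≫ StMod.bmap 𝒵 (m ≫ φ) = h) {U : (StMod.sch 𝒵 ξ').Opens}
    {V : W.Opens} (hV : V ≤ a ⁻¹ᵁ U)
    {U'' : (StMod.sch 𝒵 ξ'').Opens} (hU'' : U'' ≤ StMod.bmap 𝒵 m ⁻¹ᵁ U) (hVe : V ≤ e ⁻¹ᵁ U'')
    (y : Γ((Scheme.Modules.pullback (StMod.bmap 𝒵 φ)).obj (F.obj ξ), U)) :
    (cA F (m ≫ φ) e h he).app V (plMap (F.obj ξ) a ha hV y) =
      pullMap e (F.obj ξ'') hVe (res F m hU'' ((ad F φ).app U y)) := by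
  rw [app_plMap_of_eq (F.obj ξ) a ha _ _ (vMap_cA F m φ e a hm h ha he) hV y]
  exact (homEquiv_app a (F.obj ξ') (cA F m e a hm) hV _).trans (cA_pullMap F m e a hm hU'' hVe hV _)

/-- Sections of a quasi-coherent module are determined on a flat covering by arrows. -/
theorem eq_of_res (hF : StMod.isQCoh 𝒵 F) {U : (StMod.sch 𝒵 ξ).Opens} (s s' : Γ(F.obj ξ, U))
    (h : ∀ t ∈ U, ∃ (z : 𝒵.obj) (φ : z ⟶ ξ) (_ : Flat (StMod.bmap 𝒵 φ)) (v : StMod.sch 𝒵 z)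
      (V : (StMod.sch 𝒵 z).Opens) (hV : V ≤ StMod.bmap 𝒵 φ ⁻¹ᵁ U),
      v ∈ V ∧ StMod.bmap 𝒵 φ v = t ∧ res F φ hV s = res F φ hV s') : s = s' := by
  haveI : Coh.IsQCoh (F.obj ξ) := hF.2 ξ
  refine TopCat.Presheaf.section_ext (⟨(F.obj ξ).presheaf, (F.obj ξ).isSheaf⟩ :
    TopCat.Sheaf Ab.{u} (StMod.sch 𝒵 ξ)) U _ _ fun t ht => ?_
  obtain ⟨z, φ, _, v, V, hV, hvV, rfl, he⟩ := h t ht
  haveI := isIso_ad F hF.1 φ
  rw [← ad_pullMap, ← ad_pullMap] at he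
  have he' := (ConcreteCategory.bijective_of_isIso ((ad F φ).app V)).1 he
  apply injective_pullStalk (StMod.bmap 𝒵 φ) (F.obj ξ) v
  show pullStalk _ _ v ((F.obj ξ).presheaf.germ U _ ht s) = pullStalk _ _ v ((F.obj ξ).presheaf.germ U _ ht s')
  rw [pullStalk_germ' (StMod.bmap 𝒵 φ) (F.obj ξ) v ht hvV hV,
    pullStalk_germ' (StMod.bmap 𝒵 φ) (F.obj ξ) v ht hvV hV, he']

end Groth.Agent.GerbeExtLib
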