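import Groth.Agent.GerbeExtLib.Sys

/-!
# The canonical maps of the glued module to the objects of the subcategory
-/

set_option autoImplicit false
set_option backward.isDefEq.respectTransparency false
set_option linter.style.haveILetI false
set_option linter.unusedSectionVars false
set_option maxHeartbeats 800000

universe w w' v' u

open CategoryTheory CategoryTheory.Limits AlgebraicGeometry TopologicalSpace Opposite
open Groth.Agent.PullbackMod Groth.Agent.CohBase Groth.Agent.FpqcQCoh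

noncomputable section

namespace Groth.Agent.GerbeExtLib

variable {S : Scheme.{u}} {𝒴 : BasedCategory.{v', w'} (Over S)} {O : Type w} {o : O → 𝒴.obj}
  [FibCat.IsFibGrpd (indCat o).p] [FibCat.IsFibGrpd 𝒴.p]
  (F : StMod.Mod (indCat o)) (hF : StMod.isQCoh (indCat o) F) {y : 𝒴.obj} (c : ICover o y)

/-- `n` is the value at `(z, α)` of the section `s`. -/
def IsVal {z : (indCat o).obj} (α : o z ⟶ y) {U : (StMod.sch 𝒴 y).Opens} (s : Γ(extObj F hF c, U))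
    (n : Γ(F.obj z, StMod.bmap 𝒴 α ⁻¹ᵁ U)) : Prop :=
  ∀ (i : c.I) (z' : (indCat o).obj) (φ : z' ⟶ z) (ψ : z' ⟶ c.z i), φ.hom ≫ α = ψ.hom ≫ c.g i →
    ∀ (V : (StMod.sch (indCat o) z').Opens) (hφ : V ≤ StMod.bmap (indCat o) φ ⁻¹ᵁ StMod.bmap 𝒴 α ⁻¹ᵁ U)
      (hψ : V ≤ StMod.bmap (indCat o) ψ ⁻¹ᵁ cf c i ⁻¹ᵁ U), res F φ hφ n = res F ψ hψ (pr F hF c i s)

theorem preimage_eq_of_hom_eq {z' z₁ z₂ : (indCat o).obj} {α₁ : o z₁ ⟶ y} {α₂ : o z₂ ⟶ y} {φ : z' ⟶ z₁}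
    {ψ : z' ⟶ z₂} (h : φ.hom ≫ α₁ = ψ.hom ≫ α₂) (U : (StMod.sch 𝒴 y).Opens) :
    StMod.bmap (indCat o) φ ⁻¹ᵁ StMod.bmap 𝒴 α₁ ⁻¹ᵁ U = StMod.bmap (indCat o) ψ ⁻¹ᵁ StMod.bmap 𝒴 α₂ ⁻¹ᵁ U := by
  show (StMod.bmap 𝒴 φ.hom ≫ StMod.bmap 𝒴 α₁) ⁻¹ᵁ U = (StMod.bmap 𝒴 ψ.hom ≫ StMod.bmap 𝒴 α₂) ⁻¹ᵁ U
  rw [← StMod.bmap_comp, ← StMod.bmap_comp, h]

theorem isVal_unique {z : (indCat o).obj} (α : o z ⟶ y) {U : (StMod.sch 𝒴 y).Opens} (s : Γ(extObj F hF c, U))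
    {n n' : Γ(F.obj z, StMod.bmap 𝒴 α ⁻¹ᵁ U)} (h : IsVal F hF c α s n) (h' : IsVal F hF c α s n') : n = n' :=
  eq_of_res F hF _ _ fun t ht => by
    obtain ⟨i, v₂, hv₂⟩ := c.cov (StMod.bmap 𝒴 α t)
    obtain ⟨z', φ, ψ, v, hc, hflat, -, hv, -⟩ := exists_roof_point α (c.g i) t v₂ hv₂.symm
    refine ⟨z', φ, hflat, v, StMod.bmap (indCat o) φ ⁻¹ᵁ StMod.bmap 𝒴 α ⁻¹ᵁ U, le_rfl,
      show StMod.bmap (indCat o) φ v ∈ StMod.bmap 𝒴 α ⁻¹ᵁ U by rw [hv]; exact ht, hv, ?_⟩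
    exact (h i z' φ ψ hc _ le_rfl (preimage_eq_of_hom_eq hc U).le).trans
      (h' i z' φ ψ hc _ le_rfl (preimage_eq_of_hom_eq hc U).le).symm

theorem exists_isVal {z : (indCat o).obj} (α : o z ⟶ y) {U : (StMod.sch 𝒴 y).Opens} (s : Γ(extObj F hF c, U)) :
    ∃ n : Γ(F.obj z, StMod.bmap 𝒴 α ⁻¹ᵁ U), IsVal F hF c α s n := by
  have hp : ∀ t : StMod.sch (indCat o) z, ∃ (i : c.I) (z' : (indCat o).obj) (φ : z' ⟶ z) (ψ : z' ⟶ c.z i),
      φ.hom ≫ α = ψ.hom ≫ c.g i ∧ Flat (StMod.bmap (indCat o) φ) ∧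
        LocallyOfFinitePresentation (StMod.bmap (indCat o) φ) ∧ t ∈ Set.range (StMod.bmap (indCat o) φ) := fun t => by
    obtain ⟨i, v₂, hv₂⟩ := c.cov (StMod.bmap 𝒴 α t)
    obtain ⟨z', φ, ψ, v, hc, hflat, hlfp, hv, -⟩ := exists_roof_point α (c.g i) t v₂ hv₂.symm
    exact ⟨i, z', φ, ψ, hc, hflat, hlfp, v, hv⟩
  choose i z' φ ψ hc hflat hlfp hmem using hp
  let d : FCover (𝒵 := indCat o) z := ⟨StMod.sch (indCat o) z, z', φ, hflat, hlfp, fun t => ⟨t, hmem t⟩⟩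
  let U₀ := StMod.bmap 𝒴 α ⁻¹ᵁ U
  have hle : ∀ t, StMod.bmap (indCat o) (φ t) ⁻¹ᵁ U₀ ≤ StMod.bmap (indCat o) (ψ t) ⁻¹ᵁ cf c (i t) ⁻¹ᵁ U :=
    fun t => (preimage_eq_of_hom_eq (hc t) U).le
  obtain ⟨n, hn⟩ := exists_glue F hF d U₀ (fun t => res F (ψ t) (hle t) (pr F hF c (i t) s))
    fun k l x m m' h V hm hm' => by
      have hk : V ≤ StMod.bmap (indCat o) (m ≫ ψ k) ⁻¹ᵁ cf c (i k) ⁻¹ᵁ U := by
        rw [StMod.bmap_comp]; exact hm.trans (Scheme.Hom.preimage_mono _ (hle k))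
      have hl : V ≤ StMod.bmap (indCat o) (m' ≫ ψ l) ⁻¹ᵁ cf c (i l) ⁻¹ᵁ U := by
        rw [StMod.bmap_comp]; exact hm'.trans (Scheme.Hom.preimage_mono _ (hle l))
      rw [← res_comp F m (ψ k) (hle k) hm hk, ← res_comp F m' (ψ l) (hle l) hm' hl]
      refine res_pr F hF c s _ _ ?_ hk hl
      have e1 : m.hom ≫ (φ k).hom = m'.hom ≫ (φ l).hom := congrArg InducedCategory.Hom.hom h
      show (m.hom ≫ (ψ k).hom) ≫ c.g (i k) = (m'.hom ≫ (ψ l).hom) ≫ c.g (i l)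
      rw [Category.assoc, Category.assoc, ← hc k, ← hc l, ← Category.assoc, e1, Category.assoc]
  refine ⟨n, fun j x p q hpq V hp hq => eq_of_res F hF _ _ fun t ht => ?_⟩
  obtain ⟨k, v₂, hv₂⟩ := d.cov (StMod.bmap (indCat o) p t)
  obtain ⟨x', a, b, v, hab, hflat', hv, -⟩ := exists_fill_point p (d.hom k) t v₂ hv₂.symm
  let V' := StMod.bmap (indCat o) a ⁻¹ᵁ V
  refine ⟨x', a, hflat', v, V', le_rfl, show StMod.bmap (indCat o) a v ∈ V by rw [hv]; exact ht, hv, ?_⟩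
  have h1 : V' ≤ StMod.bmap (indCat o) (a ≫ p) ⁻¹ᵁ U₀ := by
    rw [StMod.bmap_comp]; exact Scheme.Hom.preimage_mono _ hp
  have h2 : V' ≤ StMod.bmap (indCat o) b ⁻¹ᵁ StMod.bmap (indCat o) (d.hom k) ⁻¹ᵁ U₀ := by
    have := hab ▸ h1; rwa [StMod.bmap_comp] at this
  have h3 : V' ≤ StMod.bmap (indCat o) (b ≫ ψ k) ⁻¹ᵁ cf c (i k) ⁻¹ᵁ U := by
    rw [StMod.bmap_comp]; exact h2.trans (Scheme.Hom.preimage_mono _ (hle k))
  have h4 : V' ≤ StMod.bmap (indCat o) (a ≫ q) ⁻¹ᵁ cf c j ⁻¹ᵁ U := by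
    rw [StMod.bmap_comp]; exact Scheme.Hom.preimage_mono _ hq
  rw [← res_comp F a p hp le_rfl h1, res_congr F hab h1 (hab ▸ h1), res_comp F b (d.hom k) le_rfl h2, hn k]
  erw [← res_comp F b (ψ k) (hle k) h2 h3, ← res_comp F a q hq le_rfl h4]
  refine res_pr F hF c s _ _ ?_ h3 h4
  have e1 : a.hom ≫ p.hom = b.hom ≫ (φ k).hom := congrArg InducedCategory.Hom.hom hab
  show (b.hom ≫ (ψ k).hom) ≫ c.g (i k) = (a.hom ≫ q.hom) ≫ c.g j
  rw [Category.assoc, Category.assoc, ← hc k, ← hpq, ← Category.assoc, ← e1, Category.assoc]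

/-- The value at `(z, α)`. -/
def val {z : (indCat o).obj} (α : o z ⟶ y) {U : (StMod.sch 𝒴 y).Opens} (s : Γ(extObj F hF c, U)) :
    Γ(F.obj z, StMod.bmap 𝒴 α ⁻¹ᵁ U) := (exists_isVal F hF c α s).choose

theorem val_spec {z : (indCat o).obj} (α : o z ⟶ y) {U : (StMod.sch 𝒴 y).Opens} (s : Γ(extObj F hF c, U)) :
    IsVal F hF c α s (val F hF c α s) := (exists_isVal F hF c α s).choose_spec

theorem val_g (i : c.I) {U : (StMod.sch 𝒴 y).Opens} (s : Γ(extObj F hF c, U)) :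
    val F hF c (c.g i) s = pr F hF c i s :=
  isVal_unique F hF c (c.g i) s (val_spec F hF c _ s) fun _ _ φ ψ h _ hφ hψ => res_pr F hF c s φ ψ h hφ hψ

theorem res_val {z' z : (indCat o).obj} (φ : z' ⟶ z) (α : o z ⟶ y) (α' : o z' ⟶ y) (hα : φ.hom ≫ α = α')
    {U : (StMod.sch 𝒴 y).Opens} {V : (StMod.sch (indCat o) z').Opens}
    (hV : V ≤ StMod.bmap (indCat o) φ ⁻¹ᵁ StMod.bmap 𝒴 α ⁻¹ᵁ U) (hV' : V ≤ StMod.bmap 𝒴 α' ⁻¹ᵁ U)
    (s : Γ(extObj F hF c, U)) :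
    res F φ hV (val F hF c α s) = (F.obj z').presheaf.map (homOfLE hV').op (val F hF c α' s) := by
  subst hα
  have he : StMod.bmap 𝒴 (φ.hom ≫ α) ⁻¹ᵁ U ≤ StMod.bmap (indCat o) φ ⁻¹ᵁ StMod.bmap 𝒴 α ⁻¹ᵁ U := by
    rw [StMod.bmap_comp]; exact le_rfl
  rw [← restr_res F φ he hV']
  refine congrArg _ (isVal_unique F hF c _ s (fun i x p q h V' hp hq => ?_) (val_spec F hF c _ s))
  have hp' : V' ≤ StMod.bmap (indCat o) (p ≫ φ) ⁻¹ᵁ StMod.bmap 𝒴 α ⁻¹ᵁ U := by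
    rw [StMod.bmap_comp]; exact hp.trans (Scheme.Hom.preimage_mono _ he)
  rw [← res_comp F p φ he hp hp']
  exact val_spec F hF c α s i x (p ≫ φ) q ((Category.assoc _ _ _).trans h) V' hp' hq

theorem val_add {z : (indCat o).obj} (α : o z ⟶ y) {U : (StMod.sch 𝒴 y).Opens} (s s' : Γ(extObj F hF c, U)) :
    val F hF c α (s + s') = val F hF c α s + val F hF c α s' :=
  isVal_unique F hF c α _ (val_spec F hF c α _) fun i x p q h V hp hq => by
    rw [map_add, val_spec F hF c α s i x p q h V hp hq, val_spec F hF c α s' i x p q h V hp hq, ← map_add]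
    exact congrArg _ (map_add ((FamilyDesc.π (cSys F hF c) i).app U).hom s s').symm

theorem val_smul {z : (indCat o).obj} (α : o z ⟶ y) {U : (StMod.sch 𝒴 y).Opens} (r : Γ(StMod.sch 𝒴 y, U))
    (s : Γ(extObj F hF c, U)) :
    val F hF c α (r • s) = (StMod.bmap 𝒴 α).app U r • val F hF c α s :=
  isVal_unique F hF c α _ (val_spec F hF c α _) fun i x p q h V hp hq => by
    rw [res_smul, val_spec F hF c α s i x p q h V hp hq,
      show pr F hF c i (r • s) = (cf c i).app U r • pr F hF c i s from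
        Scheme.Modules.Hom.app_smul (FamilyDesc.π (cSys F hF c) i) r s, res_smul]
    refine congrArg (· • _) ?_
    show ((StMod.bmap 𝒴 α).app U ≫ (StMod.bmap 𝒴 p.hom).appLE _ V hp) r =
      ((StMod.bmap 𝒴 (c.g i)).app U ≫ (StMod.bmap 𝒴 q.hom).appLE _ V hq) r
    simp only [Scheme.Hom.app_eq_appLE, Scheme.Hom.appLE_comp_appLE]
    have e : StMod.bmap 𝒴 p.hom ≫ StMod.bmap 𝒴 α = StMod.bmap 𝒴 q.hom ≫ StMod.bmap 𝒴 (c.g i) := by
      rw [← StMod.bmap_comp, ← StMod.bmap_comp, h]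
    congr 3

theorem val_restr {z : (indCat o).obj} (α : o z ⟶ y) {U U' : (StMod.sch 𝒴 y).Opens} (hU : U' ≤ U)
    (s : Γ(extObj F hF c, U)) :
    val F hF c α ((extObj F hF c).presheaf.map (homOfLE hU).op s) =
      (F.obj z).presheaf.map (homOfLE ((StMod.bmap 𝒴 α).preimage_mono hU)).op (val F hF c α s) :=
  isVal_unique F hF c α _ (val_spec F hF c α _) fun i x p q h V hp hq => by
    rw [res_restr, show pr F hF c i ((extObj F hF c).presheaf.map (homOfLE hU).op s) =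
      (F.obj (c.z i)).presheaf.map (homOfLE ((cf c i).preimage_mono hU)).op (pr F hF c i s) from
        QCohLib.app_res (FamilyDesc.π (cSys F hF c) i) hU s, res_restr]
    exact val_spec F hF c α s i x p q h V _ _

/-- The canonical map to `(z, α)`. -/
def valHom {z : (indCat o).obj} (α : o z ⟶ y) :
    extObj F hF c ⟶ (Scheme.Modules.pushforward (StMod.bmap 𝒴 α)).obj (F.obj z) :=
  ⟨PresheafOfModules.homMk
    { app := fun U => AddCommGrpCat.ofHom (AddMonoidHom.mk' (val F hF c α (U := U.unop)) (val_add F hF c α))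
      naturality := fun U V j => by
        refine AddCommGrpCat.hom_ext (AddMonoidHom.ext fun a => ?_)
        show val F hF c α (U := V.unop) ((extObj F hF c).presheaf.map j a) =
          (F.obj z).presheaf.map ((Opens.map (StMod.bmap 𝒴 α).base).op.map j) (val F hF c α (U := U.unop) a)
        rw [show j = (homOfLE j.unop.le).op from Quiver.Hom.unop_inj (Subsingleton.elim _ _)]
        exact val_restr F hF c α j.unop.le a }
    fun U (r : Γ(StMod.sch 𝒴 y, U.unop)) (a : Γ(extObj F hF c, U.unop)) => val_smul F hF c α r a⟩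

theorem valHom_app {z : (indCat o).obj} (α : o z ⟶ y) {U : (StMod.sch 𝒴 y).Opens} (s : Γ(extObj F hF c, U)) :
    (valHom F hF c α).app U s = val F hF c α s := rfl

/-- The adjoint of the canonical map. -/
def valAd {z : (indCat o).obj} (α : o z ⟶ y) :
    (Scheme.Modules.pullback (StMod.bmap 𝒴 α)).obj (extObj F hF c) ⟶ F.obj z :=
  ((Scheme.Modules.pullbackPushforwardAdjunction (StMod.bmap 𝒴 α)).homEquiv _ _).symm (valHom F hF c α)

theorem valAd_pullMap {z : (indCat o).obj} (α : o z ⟶ y) {U : (StMod.sch 𝒴 y).Opens}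
    {V : (StMod.sch 𝒴 (o z)).Opens} (hV : V ≤ StMod.bmap 𝒴 α ⁻¹ᵁ U) (s : Γ(extObj F hF c, U)) :
    (valAd F hF c α).app V (pullMap (StMod.bmap 𝒴 α) (extObj F hF c) hV s) =
      (F.obj z).presheaf.map (homOfLE hV).op (val F hF c α s) := by
  rw [← homEquiv_app (StMod.bmap 𝒴 α) (extObj F hF c) (valAd F hF c α) hV, valAd, Equiv.apply_symm_apply]
  rfl

theorem valAd_comp {z' z : (indCat o).obj} (φ : z' ⟶ z) (α : o z ⟶ y) (α' : o z' ⟶ y) (hα : φ.hom ≫ α = α')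
    (e : StMod.bmap (indCat o) φ ≫ StMod.bmap 𝒴 α = StMod.bmap 𝒴 α') :
    valAd F hF c α' = (cmpIso (extObj F hF c) (StMod.bmap (indCat o) φ) e).inv ≫
      (Scheme.Modules.pullback (StMod.bmap (indCat o) φ)).map (valAd F hF c α) ≫ ad F φ := by
  refine hom_ext_pullMap (StMod.bmap 𝒴 α') _ fun U s => ?_
  have h1 : StMod.bmap 𝒴 α' ⁻¹ᵁ U ≤ StMod.bmap (indCat o) φ ⁻¹ᵁ StMod.bmap 𝒴 α ⁻¹ᵁ U := by
    rw [← e]; exact le_rfl
  simp only [Scheme.Modules.Hom.comp_app, ConcreteCategory.comp_apply]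
  rw [valAd_pullMap, restr_self,
    FamilyDesc.cmp_inv_pullMap (StMod.bmap (indCat o) φ) e (le_refl (StMod.bmap 𝒴 α ⁻¹ᵁ U)) h1 le_rfl,
    pullMap_natural, valAd_pullMap, restr_self, ad_pullMap, res_val F hF c φ α α' hα h1 le_rfl, restr_self]

theorem isIso_valAd {z : (indCat o).obj} (α : o z ⟶ y) : IsIso (valAd F hF c α) := by
  haveI : Coh.IsQCoh (extObj F hF c) := isQCoh_extObj F hF c
  haveI : Coh.IsQCoh (F.obj z) := hF.2 z
  haveI := isQCoh_pullback (StMod.bmap 𝒴 α) (extObj F hF c)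
  have hbase : ∀ i, IsIso (valAd F hF c (c.g i)) := fun i => by
    have e : valAd F hF c (c.g i) = FamilyDesc.ψ (cSys F hF c) i := by
      refine congrArg _ ?_
      ext U s
      exact val_g F hF c i s
    rw [e]
    exact FamilyDesc.isIso_ψ _ c.toF.mem_fpqc i
  have hp : ∀ t : StMod.sch (indCat o) z, ∃ (i : c.I) (z' : (indCat o).obj) (φ : z' ⟶ z) (ψ : z' ⟶ c.z i),
      φ.hom ≫ α = ψ.hom ≫ c.g i ∧ Flat (StMod.bmap (indCat o) φ) ∧
        LocallyOfFinitePresentation (StMod.bmap (indCat o) φ) ∧ t ∈ Set.range (StMod.bmap (indCat o) φ) := fun t => by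
    obtain ⟨i, v₂, hv₂⟩ := c.cov (StMod.bmap 𝒴 α t)
    obtain ⟨z', φ, ψ, v, hc, hflat, hlfp, hv, -⟩ := exists_roof_point α (c.g i) t v₂ hv₂.symm
    exact ⟨i, z', φ, ψ, hc, hflat, hlfp, v, hv⟩
  choose i z' φ ψ hc hflat hlfp hmem using hp
  let d : FCover (𝒵 := indCat o) z := ⟨StMod.sch (indCat o) z, z', φ, hflat, hlfp, fun t => ⟨t, hmem t⟩⟩
  refine isIso_of_pullback_family d.mem_fpqc (valAd F hF c α) fun t => ?_
  haveI := hbase (i t)
  haveI := isIso_ad F hF.1 (φ t)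
  haveI := isIso_ad F hF.1 (ψ t)
  have e1 : StMod.bmap (indCat o) (ψ t) ≫ StMod.bmap 𝒴 (c.g (i t)) = StMod.bmap 𝒴 ((φ t).hom ≫ α) := by
    rw [hc t]; exact (StMod.bmap_comp _ _).symm
  have e2 : StMod.bmap (indCat o) (φ t) ≫ StMod.bmap 𝒴 α = StMod.bmap 𝒴 ((φ t).hom ≫ α) :=
    (StMod.bmap_comp _ _).symm
  haveI : IsIso (valAd F hF c ((φ t).hom ≫ α)) := by
    rw [valAd_comp F hF c (ψ t) (c.g (i t)) ((φ t).hom ≫ α) (hc t).symm e1]
    infer_instance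
  have h3 := valAd_comp F hF c (φ t) α _ rfl e2
  haveI : IsIso ((cmpIso (extObj F hF c) (StMod.bmap (indCat o) (φ t)) e2).inv ≫
      (Scheme.Modules.pullback (StMod.bmap (indCat o) (φ t))).map (valAd F hF c α) ≫ ad F (φ t)) := h3 ▸ inferInstance
  haveI := IsIso.of_isIso_comp_left (cmpIso (extObj F hF c) (StMod.bmap (indCat o) (φ t)) e2).inv
    ((Scheme.Modules.pullback (StMod.bmap (indCat o) (φ t))).map (valAd F hF c α) ≫ ad F (φ t))
  exact IsIso.of_isIso_comp_right _ (ad F (φ t))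

end Groth.Agent.GerbeExtLib
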