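import Groth.Agent.GerbeExtLib.Can

/-!
# Extension of quasi-coherent modules from a full subcategory meeting every object locally
-/

set_option autoImplicit false
set_option backward.isDefEq.respectTransparency false
set_option linter.style.haveILetI false
set_option linter.unusedSectionVars false
set_option maxHeartbeats 800000

universe w w' v' u

open CategoryTheory CategoryTheory.Limits AlgebraicGeometry TopologicalSpace Opposite
open Groth.Agent.PullbackMod Groth.Agent.CohBase Groth.Agent.FpqcQCoh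

noncomputable section

namespace Groth.Agent.GerbeExtLib

variable {S : Scheme.{u}} {𝒴 : BasedCategory.{v', w'} (Over S)} {O : Type w} {o : O → 𝒴.obj}
  [FibCat.IsFibGrpd (indCat o).p] [FibCat.IsFibGrpd 𝒴.p]
  (F : StMod.Mod (indCat o)) (hF : StMod.isQCoh (indCat o) F) (c : ∀ y, ICover o y)

/-- The comparison map of the extension along an arrow. -/
theorem extMapFun {y' y : 𝒴.obj} (φ : y' ⟶ y) (U : (StMod.sch 𝒴 y).Opens) (s : Γ(extObj F hF (c y), U)) :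
    ∃ m : Γ(extObj F hF (c y'), StMod.bmap 𝒴 φ ⁻¹ᵁ U), ∀ (i : (c y').I)
      (h : cf (c y') i ⁻¹ᵁ (StMod.bmap 𝒴 φ ⁻¹ᵁ U) ≤ StMod.bmap 𝒴 ((c y').g i ≫ φ) ⁻¹ᵁ U),
      pr F hF (c y') i m = (F.obj _).presheaf.map (homOfLE h).op (val F hF (c y) ((c y').g i ≫ φ) s) := by
  have hle : ∀ i, cf (c y') i ⁻¹ᵁ (StMod.bmap 𝒴 φ ⁻¹ᵁ U) ≤ StMod.bmap 𝒴 ((c y').g i ≫ φ) ⁻¹ᵁ U := fun i => by
    rw [StMod.bmap_comp]; exact le_rfl
  obtain ⟨m, hm⟩ := exists_of_pr F hF (c y') (U := StMod.bmap 𝒴 φ ⁻¹ᵁ U)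
    (fun i => (F.obj _).presheaf.map (homOfLE (hle i)).op (val F hF (c y) ((c y').g i ≫ φ) s))
    fun i j z p q h V hp hq => by
      have hV : V ≤ StMod.bmap 𝒴 (p.hom ≫ (c y').g i ≫ φ) ⁻¹ᵁ U := by
        rw [StMod.bmap_comp]; exact hp.trans (Scheme.Hom.preimage_mono _ (hle i))
      rw [res_restr, res_restr, res_val F hF (c y) p _ _ rfl _ hV,
        res_val F hF (c y) q _ (p.hom ≫ (c y').g i ≫ φ) (by rw [← Category.assoc, ← h, Category.assoc]) _ hV]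
  exact ⟨m, fun i h => hm i⟩

/-- The comparison map on sections. -/
def extApp {y' y : 𝒴.obj} (φ : y' ⟶ y) (U : (StMod.sch 𝒴 y).Opens) (s : Γ(extObj F hF (c y), U)) :
    Γ(extObj F hF (c y'), StMod.bmap 𝒴 φ ⁻¹ᵁ U) := (extMapFun F hF c φ U s).choose

theorem val_extApp {y' y : 𝒴.obj} (φ : y' ⟶ y) {U : (StMod.sch 𝒴 y).Opens} (s : Γ(extObj F hF (c y), U))
    {z : (indCat o).obj} (α : o z ⟶ y') (h : StMod.bmap 𝒴 α ⁻¹ᵁ (StMod.bmap 𝒴 φ ⁻¹ᵁ U) ≤
      StMod.bmap 𝒴 (α ≫ φ) ⁻¹ᵁ U) :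
    val F hF (c y') α (extApp F hF c φ U s) =
      (F.obj z).presheaf.map (homOfLE h).op (val F hF (c y) (α ≫ φ) s) := by
  refine isVal_unique F hF (c y') α _ (val_spec F hF (c y') α _) fun i z' p q hpq V hp hq => ?_
  have hle : cf (c y') i ⁻¹ᵁ (StMod.bmap 𝒴 φ ⁻¹ᵁ U) ≤ StMod.bmap 𝒴 ((c y').g i ≫ φ) ⁻¹ᵁ U := by
    rw [StMod.bmap_comp]; exact le_rfl
  have hV : V ≤ StMod.bmap 𝒴 (p.hom ≫ α ≫ φ) ⁻¹ᵁ U := by
    rw [StMod.bmap_comp]; exact hp.trans (Scheme.Hom.preimage_mono _ h)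
  unfold extApp
  rw [(extMapFun F hF c φ U s).choose_spec i hle, res_restr, res_restr, res_val F hF (c y) p _ _ rfl _ hV,
    res_val F hF (c y) q _ (p.hom ≫ α ≫ φ) (by rw [← Category.assoc, ← hpq, Category.assoc]) _ hV]

theorem extApp_eq {y' y : 𝒴.obj} (φ : y' ⟶ y) {U : (StMod.sch 𝒴 y).Opens} (s : Γ(extObj F hF (c y), U))
    {m : Γ(extObj F hF (c y'), StMod.bmap 𝒴 φ ⁻¹ᵁ U)}
    (hm : ∀ i (h : cf (c y') i ⁻¹ᵁ (StMod.bmap 𝒴 φ ⁻¹ᵁ U) ≤ StMod.bmap 𝒴 ((c y').g i ≫ φ) ⁻¹ᵁ U),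
      pr F hF (c y') i m = (F.obj _).presheaf.map (homOfLE h).op (val F hF (c y) ((c y').g i ≫ φ) s)) :
    m = extApp F hF c φ U s :=
  pr_ext F hF (c y') fun i => by
    have hle : cf (c y') i ⁻¹ᵁ (StMod.bmap 𝒴 φ ⁻¹ᵁ U) ≤ StMod.bmap 𝒴 ((c y').g i ≫ φ) ⁻¹ᵁ U := by
      rw [StMod.bmap_comp]; exact le_rfl
    rw [hm i hle]
    exact ((extMapFun F hF c φ U s).choose_spec i hle).symm

theorem pr_add {y : 𝒴.obj} (d : ICover o y) (i : d.I) {U : (StMod.sch 𝒴 y).Opens} (a b : Γ(extObj F hF d, U)) :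
    pr F hF d i (a + b) = pr F hF d i a + pr F hF d i b :=
  map_add ((FamilyDesc.π (cSys F hF d) i).app U).hom a b

theorem pr_smul {y : 𝒴.obj} (d : ICover o y) (i : d.I) {U : (StMod.sch 𝒴 y).Opens} (r : Γ(StMod.sch 𝒴 y, U))
    (a : Γ(extObj F hF d, U)) : pr F hF d i (r • a) = (cf d i).app U r • pr F hF d i a :=
  Scheme.Modules.Hom.app_smul (FamilyDesc.π (cSys F hF d) i) r a

theorem pr_restr {y : 𝒴.obj} (d : ICover o y) (i : d.I) {U V : (StMod.sch 𝒴 y).Opens} (h : V ≤ U)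
    (a : Γ(extObj F hF d, U)) :
    pr F hF d i ((extObj F hF d).presheaf.map (homOfLE h).op a) =
      (F.obj (d.z i)).presheaf.map (homOfLE ((cf d i).preimage_mono h)).op (pr F hF d i a) :=
  QCohLib.app_res (FamilyDesc.π (cSys F hF d) i) h a

theorem app_comp_res {X Y Z : Scheme.{u}} (f : X ⟶ Y) (g : Y ⟶ Z) (k : X ⟶ Z) (e : f ≫ g = k) {U : Z.Opens}
    (h : f ⁻¹ᵁ g ⁻¹ᵁ U ≤ k ⁻¹ᵁ U) (r : Γ(Z, U)) :
    f.app (g ⁻¹ᵁ U) (g.app U r) = X.presheaf.map (homOfLE h).op (k.app U r) := by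
  subst e
  show (g.app U ≫ f.app (g ⁻¹ᵁ U)) r = ((f ≫ g).app U ≫ X.presheaf.map (homOfLE h).op) r
  rw [Scheme.Hom.app_eq_appLE, Scheme.Hom.app_eq_appLE f, Scheme.Hom.appLE_comp_appLE]
  rfl

/-- The comparison map. -/
def extMap {y' y : 𝒴.obj} (φ : y' ⟶ y) :
    extObj F hF (c y) ⟶ (Scheme.Modules.pushforward (StMod.bmap 𝒴 φ)).obj (extObj F hF (c y')) :=
  ⟨PresheafOfModules.homMk
    { app := fun U => AddCommGrpCat.ofHom (AddMonoidHom.mk' (extApp F hF c φ U.unop) fun a b =>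
        (extApp_eq F hF c φ (a + b) fun i h => by
          rw [pr_add, val_add, map_add]
          exact congrArg₂ (· + ·) ((extMapFun F hF c φ _ a).choose_spec i h)
            ((extMapFun F hF c φ _ b).choose_spec i h)).symm)
      naturality := fun U V j => by
        refine AddCommGrpCat.hom_ext (AddMonoidHom.ext fun a => ?_)
        show extApp F hF c φ V.unop ((extObj F hF (c y)).presheaf.map j a) =
          (extObj F hF (c y')).presheaf.map ((Opens.map (StMod.bmap 𝒴 φ).base).op.map j) (extApp F hF c φ U.unop a)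
        rw [show j = (homOfLE j.unop.le).op from Quiver.Hom.unop_inj (Subsingleton.elim _ _)]
        refine (extApp_eq F hF c φ _ fun i h => ?_).symm
        have h0 : cf (c y') i ⁻¹ᵁ (StMod.bmap 𝒴 φ ⁻¹ᵁ U.unop) ≤ StMod.bmap 𝒴 ((c y').g i ≫ φ) ⁻¹ᵁ U.unop := by
          rw [StMod.bmap_comp]; exact le_rfl
        show pr F hF (c y') i ((extObj F hF (c y')).presheaf.map
          (homOfLE ((StMod.bmap 𝒴 φ).preimage_mono j.unop.le)).op _) = _
        rw [pr_restr, show pr F hF (c y') i (extApp F hF c φ U.unop a) = _ from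
          (extMapFun F hF c φ _ a).choose_spec i h0, val_restr, restr_trans, restr_trans] }
    fun U (r : Γ(StMod.sch 𝒴 y, U.unop)) (a : Γ(extObj F hF (c y), U.unop)) => by
      show extApp F hF c φ U.unop (r • a) = (StMod.bmap 𝒴 φ).app U.unop r • extApp F hF c φ U.unop a
      refine (extApp_eq F hF c φ _ fun i h => ?_).symm
      rw [pr_smul, show pr F hF (c y') i (extApp F hF c φ U.unop a) = _ from (extMapFun F hF c φ _ a).choose_spec i h,
        val_smul, FamilyDesc.res_smul']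
      refine congrArg (· • _) ?_
      exact app_comp_res (cf (c y') i) (StMod.bmap 𝒴 φ) _ (StMod.bmap_comp _ _).symm h r⟩

theorem extMap_app {y' y : 𝒴.obj} (φ : y' ⟶ y) {U : (StMod.sch 𝒴 y).Opens} (s : Γ(extObj F hF (c y), U)) :
    (extMap F hF c φ).app U s = extApp F hF c φ U s := rfl

theorem extApp_comp {y'' y' y : 𝒴.obj} (ψ : y'' ⟶ y') (φ : y' ⟶ y) (U : (StMod.sch 𝒴 y).Opens)
    (s : Γ(extObj F hF (c y), U)) (hU : StMod.bmap 𝒴 ψ ⁻¹ᵁ (StMod.bmap 𝒴 φ ⁻¹ᵁ U) ≤ StMod.bmap 𝒴 (ψ ≫ φ) ⁻¹ᵁ U) :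
    (extObj F hF (c y'')).presheaf.map (homOfLE hU).op (extApp F hF c (ψ ≫ φ) U s) =
      extApp F hF c ψ (StMod.bmap 𝒴 φ ⁻¹ᵁ U) (extApp F hF c φ U s) := by
  refine extApp_eq F hF c ψ _ fun i hi => ?_
  have h0 : cf (c y'') i ⁻¹ᵁ (StMod.bmap 𝒴 (ψ ≫ φ) ⁻¹ᵁ U) ≤ StMod.bmap 𝒴 ((c y'').g i ≫ ψ ≫ φ) ⁻¹ᵁ U := by
    rw [StMod.bmap_comp ((c y'').g i) (ψ ≫ φ)]; exact le_rfl
  have h1 : StMod.bmap 𝒴 ((c y'').g i ≫ ψ) ⁻¹ᵁ (StMod.bmap 𝒴 φ ⁻¹ᵁ U) ≤
      StMod.bmap 𝒴 (((c y'').g i ≫ ψ) ≫ φ) ⁻¹ᵁ U := by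
    rw [StMod.bmap_comp _ φ]; exact le_rfl
  refine (pr_restr F hF (c y'') i hU _).trans ?_
  rw [show pr F hF (c y'') i (extApp F hF c (ψ ≫ φ) U s) = _ from
    (extMapFun F hF c (ψ ≫ φ) U s).choose_spec i h0, restr_trans, val_extApp F hF c φ s _ h1, restr_trans]
  have key : ∀ (β : o ((c y'').z i) ⟶ y) (_ : β = ((c y'').g i ≫ ψ) ≫ φ) {V : (cX (c y'') i).Opens}
      (hβ : V ≤ StMod.bmap 𝒴 β ⁻¹ᵁ U) (hβ' : V ≤ StMod.bmap 𝒴 (((c y'').g i ≫ ψ) ≫ φ) ⁻¹ᵁ U),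
      (F.obj _).presheaf.map (homOfLE hβ).op (val F hF (c y) β s) =
        (F.obj _).presheaf.map (homOfLE hβ').op (val F hF (c y) (((c y'').g i ≫ ψ) ≫ φ) s) := by
    rintro β rfl V hβ hβ'; rfl
  exact key _ (Category.assoc _ _ _).symm _ _

/-- The extension. -/
def extMod : StMod.Mod 𝒴 where
  obj y := extObj F hF (c y)
  map φ _ hg := extMap F hF c φ ≫ (Scheme.Modules.pushforwardCongr hg).hom.app _
  map_id y := by
    ext U s
    show ((Scheme.Modules.pushforwardCongr (StMod.bmap_id y)).hom.app (extObj F hF (c y))).app U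
      (extApp F hF c (𝟙 y) U s) = s
    rw [Scheme.Modules.pushforwardCongr_hom_app_app]
    refine pr_ext F hF (c y) fun i => ?_
    show pr F hF (c y) i ((extObj F hF (c y)).presheaf.map _ (extApp F hF c (𝟙 y) U s)) = _
    have hU : U ≤ StMod.bmap 𝒴 (𝟙 y) ⁻¹ᵁ U := by rw [StMod.bmap_id]; exact le_rfl
    have h0 : cf (c y) i ⁻¹ᵁ (StMod.bmap 𝒴 (𝟙 y) ⁻¹ᵁ U) ≤ StMod.bmap 𝒴 ((c y).g i ≫ 𝟙 y) ⁻¹ᵁ U := by
      rw [StMod.bmap_comp]; exact le_rfl
    refine (pr_restr F hF (c y) i hU _).trans ?_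
    rw [show pr F hF (c y) i (extApp F hF c (𝟙 y) U s) = _ from (extMapFun F hF c (𝟙 y) U s).choose_spec i h0,
      restr_trans, ← val_g F hF (c y) i s]
    have key : ∀ (β : o ((c y).z i) ⟶ y) (_ : β = (c y).g i) (hβ : cf (c y) i ⁻¹ᵁ U ≤ StMod.bmap 𝒴 β ⁻¹ᵁ U),
        (F.obj _).presheaf.map (homOfLE hβ).op (val F hF (c y) β s) = val F hF (c y) ((c y).g i) s := by
      rintro β rfl hβ; exact restr_self _ _ _
    exact key _ (Category.comp_id _) _
  map_comp {y'' y' y} ψ φ h g hh hg := by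
    subst hh hg
    simp only [StMod.pushforwardCongr_hom_app_self, Category.comp_id]
    ext U s
    have hU : StMod.bmap 𝒴 ψ ⁻¹ᵁ (StMod.bmap 𝒴 φ ⁻¹ᵁ U) ≤ StMod.bmap 𝒴 (ψ ≫ φ) ⁻¹ᵁ U := by
      rw [StMod.bmap_comp]; exact le_rfl
    refine Eq.trans ?_ (extApp_comp F hF c ψ φ U s hU)
    rw [Scheme.Modules.Hom.comp_app, Scheme.Modules.pushforwardCongr_hom_app_app]
    rfl

theorem extMod_map {y' y : 𝒴.obj} (φ : y' ⟶ y) : (extMod F hF c).map φ rfl = extMap F hF c φ := by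
  show extMap F hF c φ ≫ (Scheme.Modules.pushforwardCongr rfl).hom.app _ = _
  rw [StMod.pushforwardCongr_hom_app_self, Category.comp_id]

theorem isQCoh_extMod : StMod.isQCoh 𝒴 (extMod F hF c) := by
  refine ⟨fun y' y φ g hg => ?_, fun y => isQCoh_extObj F hF (c y)⟩
  subst hg
  show IsIso (((Scheme.Modules.pullbackPushforwardAdjunction (StMod.bmap 𝒴 φ)).homEquiv _ _).symm
    (extMap F hF c φ ≫ (Scheme.Modules.pushforwardCongr rfl).hom.app _))
  rw [StMod.pushforwardCongr_hom_app_self, Category.comp_id]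
  haveI : Coh.IsQCoh (extObj F hF (c y)) := isQCoh_extObj F hF (c y)
  haveI : Coh.IsQCoh (extObj F hF (c y')) := isQCoh_extObj F hF (c y')
  haveI := isQCoh_pullback (StMod.bmap 𝒴 φ) (extObj F hF (c y))
  let ad' := ((Scheme.Modules.pullbackPushforwardAdjunction (StMod.bmap 𝒴 φ)).homEquiv _ _).symm (extMap F hF c φ)
  refine isIso_of_pullback_family (c y').toF.mem_fpqc ad' fun i => ?_
  have e : cf (c y') i ≫ StMod.bmap 𝒴 φ = StMod.bmap 𝒴 ((c y').g i ≫ φ) := (StMod.bmap_comp _ _).symm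
  haveI := isIso_valAd F hF (c y) ((c y').g i ≫ φ)
  haveI := isIso_valAd F hF (c y') ((c y').g i)
  have key : (cmpIso (extObj F hF (c y)) (cf (c y') i) e).inv ≫
      (Scheme.Modules.pullback (cf (c y') i)).map ad' ≫ valAd F hF (c y') ((c y').g i) =
      valAd F hF (c y) ((c y').g i ≫ φ) := by
    refine hom_ext_pullMap _ _ fun U s => ?_
    have h1 : StMod.bmap 𝒴 ((c y').g i ≫ φ) ⁻¹ᵁ U ≤ cf (c y') i ⁻¹ᵁ (StMod.bmap 𝒴 φ ⁻¹ᵁ U) := by
      rw [← e]; exact le_rfl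
    have h2 : StMod.bmap 𝒴 ((c y').g i) ⁻¹ᵁ (StMod.bmap 𝒴 φ ⁻¹ᵁ U) ≤ StMod.bmap 𝒴 ((c y').g i ≫ φ) ⁻¹ᵁ U := by
      rw [← e]; exact le_rfl
    have had : ad'.app (StMod.bmap 𝒴 φ ⁻¹ᵁ U) (pullMap (StMod.bmap 𝒴 φ) (extObj F hF (c y)) le_rfl s) =
        extApp F hF c φ U s := by
      rw [← homEquiv_app (StMod.bmap 𝒴 φ) (extObj F hF (c y)) ad' le_rfl, restr_self]
      simp only [ad', Equiv.apply_symm_apply]
      rfl
    simp only [Scheme.Modules.Hom.comp_app, ConcreteCategory.comp_apply]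
    rw [FamilyDesc.cmp_inv_pullMap (cf (c y') i) e (le_refl (StMod.bmap 𝒴 φ ⁻¹ᵁ U)) h1 le_rfl, pullMap_natural, had,
      valAd_pullMap, valAd_pullMap, val_extApp F hF c φ s _ h2, restr_trans]
  haveI : IsIso ((cmpIso (extObj F hF (c y)) (cf (c y') i) e).inv ≫
      (Scheme.Modules.pullback (cf (c y') i)).map ad' ≫ valAd F hF (c y') ((c y').g i)) := key ▸ inferInstance
  show IsIso ((Scheme.Modules.pullback (cf (c y') i)).map ad')
  haveI := IsIso.of_isIso_comp_left (cmpIso (extObj F hF (c y)) (cf (c y') i) e).inv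
    ((Scheme.Modules.pullback (cf (c y') i)).map ad' ≫ valAd F hF (c y') ((c y').g i))
  exact IsIso.of_isIso_comp_right _ (valAd F hF (c y') ((c y').g i))

/-- Reading a section of the extension at an object of the subcategory. -/
def extIncl (z : (indCat o).obj) : extObj F hF (c (o z)) ⟶ F.obj z :=
  valHom F hF (c (o z)) (𝟙 (o z)) ≫ (Scheme.Modules.pushforwardCongr (StMod.bmap_id (o z))).hom.app _ ≫
    (Scheme.Modules.pushforwardId _).hom.app _

theorem extIncl_app (z : (indCat o).obj) {U : (StMod.sch 𝒴 (o z)).Opens} (s : Γ(extObj F hF (c (o z)), U))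
    (h : U ≤ StMod.bmap 𝒴 (𝟙 (o z)) ⁻¹ᵁ U) :
    (extIncl F hF c z).app U s = (F.obj z).presheaf.map (homOfLE h).op (val F hF (c (o z)) (𝟙 (o z)) s) := by
  unfold extIncl
  simp only [Scheme.Modules.Hom.comp_app, ConcreteCategory.comp_apply, Scheme.Modules.pushforwardId_hom_app_app,
    Scheme.Modules.pushforwardCongr_hom_app_app, valHom_app]
  rfl

theorem isIso_extIncl (z : (indCat o).obj) : IsIso (extIncl F hF c z) := by
  haveI : Coh.IsQCoh (X := StMod.sch (indCat o) z) (extObj F hF (c (o z))) := isQCoh_extObj F hF (c (o z))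
  haveI : Coh.IsQCoh (F.obj z) := hF.2 z
  refine OmegaUnivLib.isIso_of_bijective_cover (X := StMod.sch (indCat o) z) (M := extObj F hF (c (o z)))
    (N := F.obj z) (extIncl F hF c z) fun x => ?_
  obtain ⟨_, ⟨U, hU, rfl⟩, hxU, -⟩ :=
    (StMod.sch (indCat o) z).isBasis_affineOpens.exists_subset_of_mem_open (Set.mem_univ x) isOpen_univ
  refine ⟨U, hU, hxU, ?_, ?_⟩
  all_goals have hid : U ≤ StMod.bmap 𝒴 (𝟙 (o z)) ⁻¹ᵁ U := by rw [StMod.bmap_id]; exact le_rfl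
  · intro a b hab
    refine pr_ext F hF _ fun i => ?_
    rw [← val_g, ← val_g]
    let φ : (c (o z)).z i ⟶ z := indHom ((c (o z)).g i)
    have hV : cf (c (o z)) i ⁻¹ᵁ U ≤ StMod.bmap (indCat o) φ ⁻¹ᵁ StMod.bmap 𝒴 (𝟙 (o z)) ⁻¹ᵁ U :=
      Scheme.Hom.preimage_mono _ hid
    have e : ∀ t : Γ(extObj F hF (c (o z)), U), val F hF (c (o z)) ((c (o z)).g i) t =
        res F φ (le_refl (StMod.bmap (indCat o) φ ⁻¹ᵁ U)) ((extIncl F hF c z).app U t) := fun t => by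
      rw [extIncl_app F hF c z t hid, res_restr]
      exact (restr_self _ le_rfl _).symm.trans (res_val F hF (c (o z)) φ (𝟙 (o z)) ((c (o z)).g i)
        (Category.comp_id _) hV le_rfl t).symm
    rw [e, e, hab]
  · intro t
    obtain ⟨m, hm⟩ := exists_of_pr F hF (c (o z)) (U := U)
      (fun i => res F (indHom ((c (o z)).g i) : (c (o z)).z i ⟶ z) le_rfl t) fun i j x p q h V hp hq => by
        have h' : p ≫ (indHom ((c (o z)).g i) : (c (o z)).z i ⟶ z) = q ≫ indHom ((c (o z)).g j) := ind_hom_ext h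
        have hV : V ≤ StMod.bmap (indCat o) (p ≫ (indHom ((c (o z)).g i) : (c (o z)).z i ⟶ z)) ⁻¹ᵁ U := by
          rw [StMod.bmap_comp]; exact hp
        exact (res_comp F p _ le_rfl hp hV t).symm.trans ((res_congr F h' hV (h' ▸ hV) t).trans (res_comp F q _ le_rfl hq (h' ▸ hV) t))
    refine ⟨m, ?_⟩
    have hv : val F hF (c (o z)) (𝟙 (o z)) m = res F (𝟙 z) le_rfl t := by
      refine isVal_unique F hF _ _ m (val_spec F hF _ _ m) fun i x p q h V hp hq => ?_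
      rw [hm i]
      have h' : p ≫ 𝟙 z = q ≫ (indHom ((c (o z)).g i) : (c (o z)).z i ⟶ z) := ind_hom_ext h
      have hV : V ≤ StMod.bmap (indCat o) (p ≫ 𝟙 z) ⁻¹ᵁ U := by
        rw [StMod.bmap_comp]; exact hp
      exact (res_comp F p _ le_rfl hp hV t).symm.trans ((res_congr F h' hV (h' ▸ hV) t).trans (res_comp F q _ le_rfl hq (h' ▸ hV) t))
    rw [extIncl_app F hF c z m hid, hv]
    erw [restr_res]
    rw [res_id F _ (le_refl U), restr_self]

/-- The extension restricts back. -/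
def extIso : F ≅ StMod.Mod.comap (indIncl o) (extMod F hF c) :=
  (StMod.Mod.isoMk (fun z => @asIso _ _ _ _ (extIncl F hF c z) (isIso_extIncl F hF c z)) (fun z' z φ g hg => by
    subst hg
    ext U s
    show (extIncl F hF c z').app (StMod.bmap (indCat o) φ ⁻¹ᵁ U)
        (((StMod.Mod.comap (indIncl o) (extMod F hF c)).map φ rfl).app U s) =
      (F.map φ rfl).app U ((extIncl F hF c z).app U s)
    have hid : U ≤ StMod.bmap 𝒴 (𝟙 (o z)) ⁻¹ᵁ U := by rw [StMod.bmap_id]; exact le_rfl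
    have hid' : StMod.bmap (indCat o) φ ⁻¹ᵁ U ≤ StMod.bmap 𝒴 (𝟙 (o z')) ⁻¹ᵁ (StMod.bmap (indCat o) φ ⁻¹ᵁ U) := by
      rw [StMod.bmap_id]; exact le_rfl
    have e1 : ((StMod.Mod.comap (indIncl o) (extMod F hF c)).map φ rfl).app U s = extApp F hF c φ.hom U s := by
      rw [show ((StMod.Mod.comap (indIncl o) (extMod F hF c)).map φ rfl).app U s =
        res (StMod.Mod.comap (indIncl o) (extMod F hF c)) φ le_rfl s from (restr_self _ le_rfl _).symm]
      erw [res_comap (extMod F hF c) φ le_rfl s]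
      refine Eq.trans (restr_self ((extMod F hF c).obj (o z')) le_rfl
        (((extMod F hF c).map φ.hom rfl).app U s)) ?_
      rw [extMod_map]
      rfl
    have h2 : StMod.bmap 𝒴 (𝟙 (o z')) ⁻¹ᵁ (StMod.bmap 𝒴 φ.hom ⁻¹ᵁ U) ≤
        StMod.bmap 𝒴 (𝟙 (o z') ≫ φ.hom) ⁻¹ᵁ U := by
      rw [StMod.bmap_comp]; exact le_rfl
    have h3 : StMod.bmap (indCat o) φ ⁻¹ᵁ U ≤ StMod.bmap (indCat o) φ ⁻¹ᵁ StMod.bmap 𝒴 (𝟙 (o z)) ⁻¹ᵁ U :=
      Scheme.Hom.preimage_mono _ hid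
    rw [e1, extIncl_app F hF c z' _ hid', extIncl_app F hF c z s hid, val_extApp F hF c φ.hom s (𝟙 (o z')) h2]
    refine (restr_trans _ h2 hid' _).trans ?_
    rw [← res_val F hF (c (o z)) φ (𝟙 (o z)) (𝟙 (o z') ≫ φ.hom)
        ((Category.comp_id _).trans (Category.id_comp _).symm) h3 (hid'.trans h2),
      show (F.map φ rfl).app U ((F.obj z).presheaf.map (homOfLE hid).op (val F hF (c (o z)) (𝟙 (o z)) s)) =
        res F φ le_rfl ((F.obj z).presheaf.map (homOfLE hid).op (val F hF (c (o z)) (𝟙 (o z)) s)) from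
          (restr_self _ le_rfl _).symm, res_restr])).symm

omit hF in
/-- Every quasi-coherent module on the subcategory extends along given coverings. -/
theorem exists_ext' (hF : StMod.isQCoh (indCat o) F) (c : ∀ y, ICover o y) :
    ∃ G : StMod.Mod 𝒴, StMod.isQCoh 𝒴 G ∧ Nonempty (F ≅ StMod.Mod.comap (indIncl o) G) :=
  ⟨extMod F hF c, isQCoh_extMod F hF c, ⟨extIso F hF c⟩⟩

omit hF in
/-- Every quasi-coherent module on the subcategory extends. -/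
theorem exists_ext (hF : StMod.isQCoh (indCat o) F)
    (hcov : Gerb.LocSurjObj (QuotSh.J Scheme.fppfPrecoverage S) (indIncl o)) :
    ∃ G : StMod.Mod 𝒴, StMod.isQCoh 𝒴 G ∧ Nonempty (F ≅ StMod.Mod.comap (indIncl o) G) :=
  let c := fun y => (nonempty_icover hcov y).some
  ⟨extMod F hF c, isQCoh_extMod F hF c, ⟨extIso F hF c⟩⟩

end Groth.Agent.GerbeExtLib
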