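import Groth.Prelude.Def_StMod

/-!
# Lifting in categories fibred in groupoids over schemes
-/

set_option autoImplicit false
set_option backward.isDefEq.respectTransparency false

universe w v u

open CategoryTheory CategoryTheory.Limits AlgebraicGeometry

namespace Groth.Agent.GerbeExtLib

variable {S : Scheme.{u}} {𝒵 : BasedCategory.{v, w} (Over S)} [FibCat.IsFibGrpd 𝒵.p]

theorem exists_fac_over {y x z : 𝒵.obj} (φ : y ⟶ x) (ψ : z ⟶ x) (g : 𝒵.p.obj z ⟶ 𝒵.p.obj y)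
    (w : g ≫ 𝒵.p.map φ = 𝒵.p.map ψ) : ∃ χ : z ⟶ y, 𝒵.p.map χ = g ∧ χ ≫ φ = ψ := by
  haveI := FibCat.IsFibGrpd.isStronglyCartesian (p := 𝒵.p) φ
  refine ⟨Functor.IsStronglyCartesian.map 𝒵.p (𝒵.p.map φ) φ w.symm ψ, ?_,
    Functor.IsStronglyCartesian.fac 𝒵.p (𝒵.p.map φ) φ w.symm ψ⟩
  exact (IsHomLift.eq_of_isHomLift 𝒵.p g _).symm

theorem hom_ext_over {y x z : 𝒵.obj} (φ : y ⟶ x) {χ χ' : z ⟶ y} (h1 : 𝒵.p.map χ = 𝒵.p.map χ')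
    (h2 : χ ≫ φ = χ' ≫ φ) : χ = χ' := by
  haveI := FibCat.IsFibGrpd.isStronglyCartesian (p := 𝒵.p) φ
  haveI : 𝒵.p.IsHomLift (𝒵.p.map χ) χ' := by rw [h1]; infer_instance
  exact Functor.IsStronglyCartesian.ext 𝒵.p (𝒵.p.map φ) φ (𝒵.p.map χ) h2

omit [FibCat.IsFibGrpd 𝒵.p] in
theorem p_map_eq {z y : 𝒵.obj} {χ χ' : z ⟶ y} (h : StMod.bmap 𝒵 χ = StMod.bmap 𝒵 χ') :
    𝒵.p.map χ = 𝒵.p.map χ' := Over.OverMorphism.ext h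

omit [FibCat.IsFibGrpd 𝒵.p] in
theorem bmap_w {z y : 𝒵.obj} (χ : z ⟶ y) :
    StMod.bmap 𝒵 χ ≫ (𝒵.p.obj y).hom = (𝒵.p.obj z).hom := Over.w (𝒵.p.map χ)

/-- Factorisation of arrows. -/
theorem exists_fac {y x z : 𝒵.obj} (φ : y ⟶ x) (ψ : z ⟶ x) (g : StMod.sch 𝒵 z ⟶ StMod.sch 𝒵 y)
    (w : g ≫ StMod.bmap 𝒵 φ = StMod.bmap 𝒵 ψ) : ∃ χ : z ⟶ y, StMod.bmap 𝒵 χ = g ∧ χ ≫ φ = ψ := by
  have hg : g ≫ (𝒵.p.obj y).hom = (𝒵.p.obj z).hom := by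
    rw [← bmap_w φ, ← Category.assoc, w]
    exact bmap_w ψ
  obtain ⟨χ, h1, h2⟩ := exists_fac_over φ ψ (Over.homMk g hg) (Over.OverMorphism.ext w)
  exact ⟨χ, congrArg (fun k => k.left) h1, h2⟩

theorem hom_ext {y x z : 𝒵.obj} (φ : y ⟶ x) {χ χ' : z ⟶ y} (h1 : StMod.bmap 𝒵 χ = StMod.bmap 𝒵 χ')
    (h2 : χ ≫ φ = χ' ≫ φ) : χ = χ' := hom_ext_over φ (p_map_eq h1) h2

/-- Lifts along morphisms of schemes. -/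
theorem exists_lift (x : 𝒵.obj) {W : Scheme.{u}} (a : W ⟶ StMod.sch 𝒵 x) :
    ∃ (z : 𝒵.obj) (e : W ≅ StMod.sch 𝒵 z) (φ : z ⟶ x), e.hom ≫ StMod.bmap 𝒵 φ = a := by
  let q : Over.mk (a ≫ (𝒵.p.obj x).hom) ⟶ 𝒵.p.obj x := Over.homMk a rfl
  obtain ⟨z, φ, hφ⟩ := FibCat.IsFibGrpd.exists_lift (p := 𝒵.p) q
  have hd : 𝒵.p.obj z = Over.mk (a ≫ (𝒵.p.obj x).hom) := IsHomLift.domain_eq 𝒵.p q φ
  refine ⟨z, (Over.forget S).mapIso (eqToIso hd.symm), φ, ?_⟩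
  have h1 : 𝒵.p.map φ = eqToHom hd ≫ q := by simpa using IsHomLift.fac' 𝒵.p q φ
  show (eqToHom hd.symm).left ≫ (𝒵.p.map φ).left = a
  rw [h1, ← Over.comp_left, eqToHom_trans_assoc, eqToHom_refl, Category.id_comp]
  rfl

/-- Two arrows to one object meet over a scheme mapping compatibly to both. -/
theorem exists_fill {z₁ z₂ x : 𝒵.obj} (φ : z₁ ⟶ x) (ψ : z₂ ⟶ x) {W : Scheme.{u}} (a : W ⟶ StMod.sch 𝒵 z₁)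
    (b : W ⟶ StMod.sch 𝒵 z₂) (w : a ≫ StMod.bmap 𝒵 φ = b ≫ StMod.bmap 𝒵 ψ) :
    ∃ (z : 𝒵.obj) (e : W ≅ StMod.sch 𝒵 z) (m : z ⟶ z₁) (n : z ⟶ z₂),
      e.hom ≫ StMod.bmap 𝒵 m = a ∧ e.hom ≫ StMod.bmap 𝒵 n = b ∧ m ≫ φ = n ≫ ψ := by
  obtain ⟨z, e, m, hm⟩ := exists_lift z₁ a
  obtain ⟨n, hn, hn'⟩ := exists_fac ψ (m ≫ φ) (e.inv ≫ b) (by
    rw [Category.assoc, ← w, ← hm, StMod.bmap_comp]
    simp)
  exact ⟨z, e, m, n, hm, by rw [hn]; simp, hn'.symm⟩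

/-- The fibre product of two arrows to one object, with a point over two given points. -/
theorem exists_fill_point {z₁ z₂ x : 𝒵.obj} (φ : z₁ ⟶ x) (ψ : z₂ ⟶ x) [Flat (StMod.bmap 𝒵 ψ)]
    (v₁ : StMod.sch 𝒵 z₁) (v₂ : StMod.sch 𝒵 z₂) (h : StMod.bmap 𝒵 φ v₁ = StMod.bmap 𝒵 ψ v₂) :
    ∃ (z : 𝒵.obj) (m : z ⟶ z₁) (n : z ⟶ z₂) (v : StMod.sch 𝒵 z), m ≫ φ = n ≫ ψ ∧
      Flat (StMod.bmap 𝒵 m) ∧ StMod.bmap 𝒵 m v = v₁ ∧ StMod.bmap 𝒵 n v = v₂ := by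
  obtain ⟨w, hw₁, hw₂⟩ := Scheme.Pullback.exists_preimage_pullback v₁ v₂ h
  obtain ⟨z, e, m, n, hm, hn, hmn⟩ := exists_fill φ ψ (pullback.fst _ _) (pullback.snd _ _) pullback.condition
  have hm' : StMod.bmap 𝒵 m = e.inv ≫ pullback.fst (StMod.bmap 𝒵 φ) (StMod.bmap 𝒵 ψ) := by
    rw [← hm, Iso.inv_hom_id_assoc]
  refine ⟨z, m, n, e.hom w, hmn, ?_, ?_, ?_⟩
  · rw [hm']; infer_instance
  · rw [← Scheme.Hom.comp_apply, hm, hw₁]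
  · rw [← Scheme.Hom.comp_apply, hn, hw₂]

end Groth.Agent.GerbeExtLib
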