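import Groth.Agent.FpqcQCoh.FamilyHom

/-!
# Isomorphisms of quasi-coherent modules are detected on fpqc coverings
-/

set_option autoImplicit false
set_option backward.isDefEq.respectTransparency false
set_option linter.style.haveILetI false

universe u

open CategoryTheory CategoryTheory.Limits AlgebraicGeometry
open Groth.Agent.FpqcQCoh

namespace Groth.Agent.GerbeExtLib

variable {S : Scheme.{u}} {ι : Type u} {X : ι → Scheme.{u}} {f : ∀ i, X i ⟶ S} {M N : S.Modules}

theorem cmpIso_natural {T Z : Scheme.{u}} {g : Z ⟶ S} (t : T ⟶ Z) {h : T ⟶ S} (e : t ≫ g = h) (p : M ⟶ N) :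
    (Scheme.Modules.pullback t).map ((Scheme.Modules.pullback g).map p) ≫ (cmpIso N t e).hom =
      (cmpIso M t e).hom ≫ (Scheme.Modules.pullback h).map p := by
  subst e
  simp only [cmpIso, Scheme.Modules.pullbackCongr, Iso.trans_hom, Iso.app_hom, eqToIso.hom, eqToHom_refl,
    NatTrans.id_app, Category.comp_id]
  exact (Scheme.Modules.pullbackComp t g).hom.naturality p

/-- A morphism which is an isomorphism on an fpqc covering is an isomorphism. -/
theorem isIso_of_pullback_family [Coh.IsQCoh M] [Coh.IsQCoh N]
    (hf : Presieve.ofArrows X f ∈ Scheme.fpqcPrecoverage S) (p : M ⟶ N)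
    (h : ∀ i, IsIso ((Scheme.Modules.pullback (f i)).map p)) : IsIso p := by
  haveI := h
  let φ := fun i => inv ((Scheme.Modules.pullback (f i)).map p)
  have hφ : IsCompatibleHom (f := f) φ := by
    intro T h' i j a b ea eb
    have key : ∀ (k : ι) (c : T ⟶ X k) (ec : c ≫ f k = h'),
        overlap φ c ec ≫ (Scheme.Modules.pullback h').map p = 𝟙 _ := by
      intro k c ec
      unfold overlap
      rw [Category.assoc, Category.assoc, ← cmpIso_natural c ec p, ← Functor.map_comp_assoc,
        show φ k ≫ (Scheme.Modules.pullback (f k)).map p = 𝟙 _ from IsIso.inv_hom_id _, CategoryTheory.Functor.map_id,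
        Category.id_comp, Iso.inv_hom_id]
    have key' : ∀ (k : ι) (c : T ⟶ X k) (ec : c ≫ f k = h'),
        (Scheme.Modules.pullback h').map p ≫ overlap φ c ec = 𝟙 _ := by
      intro k c ec
      unfold overlap
      rw [← Category.assoc, ← Category.assoc, show (Scheme.Modules.pullback h').map p ≫ (cmpIso N c ec).inv =
        (cmpIso M c ec).inv ≫ (Scheme.Modules.pullback c).map ((Scheme.Modules.pullback (f k)).map p) by
          rw [Iso.eq_inv_comp, ← Category.assoc, Iso.comp_inv_eq, cmpIso_natural],
        Category.assoc (cmpIso M c ec).inv, ← Functor.map_comp,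
        show (Scheme.Modules.pullback (f k)).map p ≫ φ k = 𝟙 _ from IsIso.hom_inv_id _, CategoryTheory.Functor.map_id,
        Category.comp_id, Iso.inv_hom_id]
    calc overlap φ a ea = overlap φ a ea ≫ ((Scheme.Modules.pullback h').map p ≫ overlap φ b eb) := by
          rw [key', Category.comp_id]
      _ = overlap φ b eb := by rw [← Category.assoc, key, Category.id_comp]
  obtain ⟨q, hq⟩ := exists_hom hf hφ
  refine ⟨q, hom_ext_family hf fun i => ?_, hom_ext_family hf fun i => ?_⟩
  · rw [Functor.map_comp, hq, CategoryTheory.Functor.map_id]; exact IsIso.hom_inv_id _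
  · rw [Functor.map_comp, hq, CategoryTheory.Functor.map_id]; exact IsIso.inv_hom_id _

end Groth.Agent.GerbeExtLib
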