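import Groth.Agent.GerbeExtLib.PCat
import Groth.Agent.GerbeExtLib.IsoDesc

/-!
# Modules passing to the image of a locally full functor
-/

set_option autoImplicit false
set_option backward.isDefEq.respectTransparency false
set_option linter.style.haveILetI false
set_option linter.unusedSectionVars false
set_option maxHeartbeats 800000

universe w w' v v' u

open CategoryTheory CategoryTheory.Limits AlgebraicGeometry TopologicalSpace Opposite
open Groth.Agent.PullbackMod Groth.Agent.CohBase Groth.Agent.FpqcQCoh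

noncomputable section

namespace Groth.Agent.GerbeExtLib

variable {S : Scheme.{u}} {𝒴 : BasedCategory.{v', w'} (Over S)} {D : Type w} [Category.{v} D] {P : D ⥤ 𝒴.obj}
  [FibCat.IsFibGrpd 𝒴.p] [FibCat.IsFibGrpd (pCat P).p]

/-- `m`, `n` lift `b`. -/
def IsLiftPair {z' z : D} (b : P.obj z' ⟶ P.obj z) {x : D} (m : x ⟶ z') (n : x ⟶ z) : Prop :=
  P.map m ≫ b = P.map n

theorem bmap_pCat {x' x : D} (φ : x' ⟶ x) : StMod.bmap (pCat P) φ = StMod.bmap 𝒴 (P.map φ) := rfl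

theorem bmap_indCat {x' x : (indCat P.obj).obj} (b : x' ⟶ x) : StMod.bmap (indCat P.obj) b = StMod.bmap 𝒴 b.hom := rfl

theorem IsLiftPair.preimage {z' z : D} {b : P.obj z' ⟶ P.obj z} {x : D} {m : x ⟶ z'} {n : x ⟶ z}
    (h : IsLiftPair b m n) (U : (StMod.sch (pCat P) z).Opens) :
    StMod.bmap (pCat P) m ⁻¹ᵁ StMod.bmap 𝒴 b ⁻¹ᵁ U = StMod.bmap (pCat P) n ⁻¹ᵁ U := by
  show (StMod.bmap 𝒴 (P.map m) ≫ StMod.bmap 𝒴 b) ⁻¹ᵁ U = StMod.bmap 𝒴 (P.map n) ⁻¹ᵁ U
  rw [← StMod.bmap_comp, h]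

/-- Every arrow between images lifts on a covering. -/
theorem exists_lift_cover (hfull : Gerb.LocSurjHom (QuotSh.J Scheme.fppfPrecoverage S) (pFun P)) {z' z : D}
    (b : P.obj z' ⟶ P.obj z) :
    ∃ (d : FCover (𝒵 := pCat P) z') (n : ∀ k, d.obj k ⟶ z), ∀ k, IsLiftPair b (d.hom k) (n k) := by
  obtain ⟨z'', φ, hφ⟩ := FibCat.IsFibGrpd.exists_lift (p := (pCat P).p) (x := z) (𝒴.p.map b)
  haveI := hφ
  have hd : (pCat P).p.obj z'' = 𝒴.p.obj (P.obj z') := IsHomLift.domain_eq (pCat P).p (𝒴.p.map b) φ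
  have hpφ : 𝒴.p.map (P.map φ) = eqToHom hd ≫ 𝒴.p.map b := by
    simpa using IsHomLift.fac' (pCat P).p (𝒴.p.map b) φ
  obtain ⟨χ, hχ, hχ'⟩ := exists_fac_over (𝒵 := 𝒴) (P.map φ) b (eqToHom hd.symm) (by
    rw [hpφ, eqToHom_trans_assoc, eqToHom_refl, Category.id_comp])
  have hlift : 𝒴.p.IsHomLift (𝟙 ((pCat P).p.obj z')) χ := by
    refine IsHomLift.of_fac' 𝒴.p _ χ rfl hd ?_
    rw [hχ]
    simp
  obtain ⟨R, hR, hmem⟩ := hfull z' z'' χ hlift
  obtain ⟨ι, Y, k, hk, hflat, hlfp, hcov⟩ := ASp.Cell.exists_fppf_family (T := (pCat P).p.obj z') (R := R) hR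
  choose x₀ f₁ f₂ hf₁ _ hcomm using fun i => hmem (k i) (hk i)
  have hdx : ∀ i, (pCat P).p.obj (x₀ i) = Y i := fun i =>
    haveI := hf₁ i; IsHomLift.domain_eq (pCat P).p (k i) (f₁ i)
  have hb : ∀ i, StMod.bmap (pCat P) (f₁ i) = (eqToHom (hdx i)).left ≫ (k i).left := fun i => by
    haveI := hf₁ i
    have h1 : (pCat P).p.map (f₁ i) = eqToHom (hdx i) ≫ k i := by
      simpa using IsHomLift.fac' (pCat P).p (k i) (f₁ i)
    exact congrArg CommaMorphism.left h1
  haveI : ∀ i, IsIso (eqToHom (hdx i)).left := fun i =>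
    inferInstanceAs (IsIso ((Over.forget S).map (eqToHom (hdx i))))
  refine ⟨⟨ι, x₀, f₁, fun i => ?_, fun i => ?_, fun t => ?_⟩, fun i => f₂ i ≫ φ, fun i => ?_⟩
  · rw [hb i]; haveI := hflat i; infer_instance
  · rw [hb i]; haveI := hlfp i; infer_instance
  · obtain ⟨i, v, hv⟩ := hcov t
    obtain ⟨v', hv'⟩ := (eqToHom (hdx i)).left.surjective v
    exact ⟨i, v', by rw [hb i]; exact (congrArg (k i).left hv').trans hv⟩
  · show P.map (f₁ i) ≫ b = P.map (f₂ i ≫ φ)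
    rw [← hχ', ← Category.assoc, P.map_comp]
    exact congrArg (· ≫ P.map φ) (hcomm i)

variable (F : StMod.Mod (pCat P)) (hF : StMod.isQCoh (pCat P) F)

/-- Restriction only depends on the image of the arrow. -/
def Inv : Prop :=
  ∀ {x' x : D} (φ φ' : x' ⟶ x), P.map φ = P.map φ' → ∀ {U : (StMod.sch (pCat P) x).Opens}
    {U' : (StMod.sch (pCat P) x').Opens} (h : U' ≤ StMod.bmap (pCat P) φ ⁻¹ᵁ U)
    (h' : U' ≤ StMod.bmap (pCat P) φ' ⁻¹ᵁ U) (s : Γ(F.obj x, U)), res F φ h s = res F φ' h' s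

/-- `t` is the transport of `s` along `b`. -/
def IsTr {z' z : D} (b : P.obj z' ⟶ P.obj z) {U : (StMod.sch (pCat P) z).Opens} (s : Γ(F.obj z, U))
    (t : Γ(F.obj z', StMod.bmap 𝒴 b ⁻¹ᵁ U)) : Prop :=
  ∀ (x : D) (m : x ⟶ z') (n : x ⟶ z), IsLiftPair b m n → ∀ (V : (StMod.sch (pCat P) x).Opens)
    (hm : V ≤ StMod.bmap (pCat P) m ⁻¹ᵁ StMod.bmap 𝒴 b ⁻¹ᵁ U) (hn : V ≤ StMod.bmap (pCat P) n ⁻¹ᵁ U),
    res F m hm t = res F n hn s

variable (hinv : Inv F) (hfull : Gerb.LocSurjHom (QuotSh.J Scheme.fppfPrecoverage S) (pFun P))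

include hF hfull in
theorem isTr_unique {z' z : D} {b : P.obj z' ⟶ P.obj z} {U : (StMod.sch (pCat P) z).Opens} {s : Γ(F.obj z, U)}
    {t t' : Γ(F.obj z', StMod.bmap 𝒴 b ⁻¹ᵁ U)} (h : IsTr F b s t) (h' : IsTr F b s t') : t = t' := by
  obtain ⟨d, n, hd⟩ := exists_lift_cover hfull b
  refine eq_of_res_cover F hF d _ _ fun k => ?_
  exact (h _ _ _ (hd k) _ le_rfl ((hd k).preimage U).le).trans (h' _ _ _ (hd k) _ le_rfl ((hd k).preimage U).le).symm

include hF hfull hinv in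
theorem exists_isTr {z' z : D} (b : P.obj z' ⟶ P.obj z) {U : (StMod.sch (pCat P) z).Opens} (s : Γ(F.obj z, U)) :
    ∃ t, IsTr F b s t := by
  obtain ⟨d, n, hd⟩ := exists_lift_cover hfull b
  let U₀ : (StMod.sch (pCat P) z').Opens := StMod.bmap 𝒴 b ⁻¹ᵁ U
  have hle : ∀ k, StMod.bmap (pCat P) (d.hom k) ⁻¹ᵁ U₀ ≤ StMod.bmap (pCat P) (n k) ⁻¹ᵁ U :=
    fun k => ((hd k).preimage U).le
  obtain ⟨t, ht⟩ := exists_glue F hF d U₀ (fun k => res F (n k) (hle k) s) fun k l x m m' h V hm hm' => by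
    have hk : V ≤ StMod.bmap (pCat P) (m ≫ n k) ⁻¹ᵁ U := by
      rw [StMod.bmap_comp]; exact hm.trans (Scheme.Hom.preimage_mono _ (hle k))
    have hl : V ≤ StMod.bmap (pCat P) (m' ≫ n l) ⁻¹ᵁ U := by
      rw [StMod.bmap_comp]; exact hm'.trans (Scheme.Hom.preimage_mono _ (hle l))
    rw [← res_comp F m (n k) (hle k) hm hk, ← res_comp F m' (n l) (hle l) hm' hl]
    refine hinv _ _ ?_ hk hl s
    rw [P.map_comp, P.map_comp, ← hd k, ← hd l, ← Category.assoc, ← P.map_comp, h, P.map_comp, Category.assoc]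
  refine ⟨t, fun x p q hpq V hp hq => eq_of_res F hF _ _ fun v hv => ?_⟩
  haveI : ∀ k, Flat (StMod.bmap (pCat P) (d.hom k)) := d.flat
  obtain ⟨k, v₂, hv₂⟩ := d.cov (StMod.bmap (pCat P) p v)
  obtain ⟨x', a, c, w, hac, hflat, hw, -⟩ := exists_fill_point p (d.hom k) v v₂ hv₂.symm
  let V' := StMod.bmap (pCat P) a ⁻¹ᵁ V
  refine ⟨x', a, hflat, w, V', le_rfl, show StMod.bmap (pCat P) a w ∈ V by rw [hw]; exact hv, hw, ?_⟩
  have h1 : V' ≤ StMod.bmap (pCat P) (a ≫ p) ⁻¹ᵁ U₀ := by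
    rw [StMod.bmap_comp]; exact Scheme.Hom.preimage_mono _ hp
  have h2 : V' ≤ StMod.bmap (pCat P) c ⁻¹ᵁ StMod.bmap (pCat P) (d.hom k) ⁻¹ᵁ U₀ := by
    have := hac ▸ h1; rwa [StMod.bmap_comp] at this
  have h3 : V' ≤ StMod.bmap (pCat P) (c ≫ n k) ⁻¹ᵁ U := by
    rw [StMod.bmap_comp]; exact h2.trans (Scheme.Hom.preimage_mono _ (hle k))
  have h4 : V' ≤ StMod.bmap (pCat P) (a ≫ q) ⁻¹ᵁ U := by
    rw [StMod.bmap_comp]; exact Scheme.Hom.preimage_mono _ hq
  refine (res_comp F a p hp le_rfl h1 t).symm.trans ((res_congr F hac h1 (hac ▸ h1) t).trans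
    ((res_comp F c (d.hom k) le_rfl h2 (hac ▸ h1) t).trans ?_))
  rw [ht k, ← res_comp F c (n k) (hle k) h2 h3, ← res_comp F a q hq le_rfl h4]
  refine hinv _ _ ?_ h3 h4 s
  rw [P.map_comp, P.map_comp, ← hd k, ← hpq, ← Category.assoc, ← P.map_comp, ← hac, P.map_comp, Category.assoc]

/-- The transport. -/
def tr {z' z : D} (b : P.obj z' ⟶ P.obj z) {U : (StMod.sch (pCat P) z).Opens} (s : Γ(F.obj z, U)) :
    Γ(F.obj z', StMod.bmap 𝒴 b ⁻¹ᵁ U) := (exists_isTr F hF hinv hfull b s).choose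

theorem tr_spec {z' z : D} (b : P.obj z' ⟶ P.obj z) {U : (StMod.sch (pCat P) z).Opens} (s : Γ(F.obj z, U)) :
    IsTr F b s (tr F hF hinv hfull b s) := (exists_isTr F hF hinv hfull b s).choose_spec

theorem tr_add {z' z : D} (b : P.obj z' ⟶ P.obj z) {U : (StMod.sch (pCat P) z).Opens} (s s' : Γ(F.obj z, U)) :
    tr F hF hinv hfull b (s + s') = tr F hF hinv hfull b s + tr F hF hinv hfull b s' :=
  isTr_unique F hF hfull (tr_spec F hF hinv hfull b _) fun x m n h V hm hn => by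
    rw [map_add, map_add, tr_spec F hF hinv hfull b s x m n h V hm hn, tr_spec F hF hinv hfull b s' x m n h V hm hn]

theorem tr_restr {z' z : D} (b : P.obj z' ⟶ P.obj z) {U U' : (StMod.sch (pCat P) z).Opens} (hU : U' ≤ U)
    (s : Γ(F.obj z, U)) :
    tr F hF hinv hfull b ((F.obj z).presheaf.map (homOfLE hU).op s) =
      (F.obj z').presheaf.map (homOfLE ((StMod.bmap 𝒴 b).preimage_mono hU)).op (tr F hF hinv hfull b s) :=
  isTr_unique F hF hfull (tr_spec F hF hinv hfull b _) fun x m n h V hm hn => by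
    rw [res_restr, res_restr]
    exact tr_spec F hF hinv hfull b s x m n h V _ _

theorem tr_smul {z' z : D} (b : P.obj z' ⟶ P.obj z) {U : (StMod.sch (pCat P) z).Opens}
    (r : Γ(StMod.sch (pCat P) z, U)) (s : Γ(F.obj z, U)) :
    tr F hF hinv hfull b (r • s) =
      (show Γ(StMod.sch (pCat P) z', StMod.bmap 𝒴 b ⁻¹ᵁ U) from (StMod.bmap 𝒴 b).app U r) •
        tr F hF hinv hfull b s :=
  isTr_unique F hF hfull (tr_spec F hF hinv hfull b _) fun x m n h V hm hn => by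
    rw [res_smul, res_smul, tr_spec F hF hinv hfull b s x m n h V hm hn]
    refine congrArg (· • _) ?_
    show ((StMod.bmap 𝒴 b).app U ≫ (StMod.bmap 𝒴 (P.map m)).appLE _ V hm) r =
      (StMod.bmap 𝒴 (P.map n)).appLE U V hn r
    simp only [Scheme.Hom.app_eq_appLE, Scheme.Hom.appLE_comp_appLE]
    congr 3
    rw [← StMod.bmap_comp]
    exact congrArg _ h

/-- The transport as a map of modules. -/
def trHom {z' z : (indCat P.obj).obj} (b : z' ⟶ z) :
    (F.obj z : (StMod.sch (indCat P.obj) z).Modules) ⟶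
      (Scheme.Modules.pushforward (StMod.bmap (indCat P.obj) b)).obj (F.obj z') :=
  ⟨PresheafOfModules.homMk
    { app := fun U => AddCommGrpCat.ofHom
        (AddMonoidHom.mk' (tr F hF hinv hfull b.hom (U := U.unop)) (tr_add F hF hinv hfull b.hom))
      naturality := fun U V j => by
        refine AddCommGrpCat.hom_ext (AddMonoidHom.ext fun a => ?_)
        show tr F hF hinv hfull b.hom (U := V.unop) ((F.obj z).presheaf.map j a) =
          (F.obj z').presheaf.map ((Opens.map (StMod.bmap 𝒴 b.hom).base).op.map j)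
            (tr F hF hinv hfull b.hom (U := U.unop) a)
        rw [show j = (homOfLE j.unop.le).op from Quiver.Hom.unop_inj (Subsingleton.elim _ _)]
        exact tr_restr F hF hinv hfull b.hom j.unop.le a }
    fun U (r : Γ(StMod.sch (pCat P) z, U.unop)) (a : Γ(F.obj z, U.unop)) => tr_smul F hF hinv hfull b.hom r a⟩

/-- The module on the image. -/
def pushMod : StMod.Mod (indCat P.obj) where
  obj z := F.obj z
  map b _ hg := trHom F hF hinv hfull b ≫ (Scheme.Modules.pushforwardCongr hg).hom.app _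
  map_id z := by
    ext U s
    have hU : U ≤ StMod.bmap 𝒴 (𝟙 (P.obj z)) ⁻¹ᵁ U := by rw [StMod.bmap_id]; exact le_rfl
    have hU' : StMod.bmap 𝒴 (𝟙 (P.obj z)) ⁻¹ᵁ U ≤ U := by rw [StMod.bmap_id]; exact le_rfl
    show ((Scheme.Modules.pushforwardCongr (StMod.bmap_id z)).hom.app (F.obj z)).app U
      (tr F hF hinv hfull (𝟙 (P.obj z)) s) = s
    rw [Scheme.Modules.pushforwardCongr_hom_app_app]
    have key : tr F hF hinv hfull (𝟙 (P.obj z)) s = (F.obj z).presheaf.map (homOfLE hU').op s := by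
      refine isTr_unique F hF hfull (tr_spec F hF hinv hfull _ _) fun x m n h V hm hn => ?_
      rw [res_restr]
      exact hinv _ _ ((Category.comp_id _).symm.trans h) _ _ s
    show (F.obj z).presheaf.map (homOfLE hU).op _ = _
    rw [key]
    exact (restr_trans (F.obj z) hU' hU s).trans (restr_self _ _ _)
  map_comp {z'' z' z} b' b h g hh hg := by
    subst hh hg
    simp only [StMod.pushforwardCongr_hom_app_self, Category.comp_id]
    ext U s
    have hU : StMod.bmap 𝒴 b'.hom ⁻¹ᵁ (StMod.bmap 𝒴 b.hom ⁻¹ᵁ U) ≤ StMod.bmap 𝒴 (b'.hom ≫ b.hom) ⁻¹ᵁ U := by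
      rw [StMod.bmap_comp]; exact le_rfl
    have key : (F.obj z'').presheaf.map (homOfLE hU).op (tr F hF hinv hfull (b'.hom ≫ b.hom) s) =
        tr F hF hinv hfull b'.hom (tr F hF hinv hfull b.hom s) := by
      refine (isTr_unique F hF hfull (tr_spec F hF hinv hfull b'.hom _) fun x m n h V hm hn => ?_).symm
      rw [res_restr]
      obtain ⟨d, n', hd⟩ := exists_lift_cover hfull b.hom
      refine eq_of_res F hF _ _ fun v hv => ?_
      haveI : ∀ k, Flat (StMod.bmap (pCat P) (d.hom k)) := d.flat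
      obtain ⟨k, v₂, hv₂⟩ := d.cov (StMod.bmap (pCat P) n v)
      obtain ⟨x', a, e, w, hae, hflat, hw, -⟩ := exists_fill_point n (d.hom k) v v₂ hv₂.symm
      let V' := StMod.bmap (pCat P) a ⁻¹ᵁ V
      refine ⟨x', a, hflat, w, V', le_rfl, show StMod.bmap (pCat P) a w ∈ V by rw [hw]; exact hv, hw, ?_⟩
      have h1 : IsLiftPair (b'.hom ≫ b.hom) (a ≫ m) (e ≫ n' k) := by
        show P.map (a ≫ m) ≫ b'.hom ≫ b.hom = P.map (e ≫ n' k)
        rw [P.map_comp, P.map_comp, ← hd k, Category.assoc, ← Category.assoc (P.map m),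
          show P.map m ≫ b'.hom = P.map n from h, ← Category.assoc, ← P.map_comp, hae, P.map_comp, Category.assoc]
      have h2 : IsLiftPair b.hom (a ≫ n) (e ≫ n' k) := by
        show P.map (a ≫ n) ≫ b.hom = P.map (e ≫ n' k)
        rw [P.map_comp e, ← hd k, ← Category.assoc, ← P.map_comp, hae]
      have ha : V' ≤ StMod.bmap (pCat P) (a ≫ m) ⁻¹ᵁ StMod.bmap 𝒴 (b'.hom ≫ b.hom) ⁻¹ᵁ U := by
        rw [StMod.bmap_comp]; exact Scheme.Hom.preimage_mono _ (hm.trans (Scheme.Hom.preimage_mono _ hU))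
      have hb : V' ≤ StMod.bmap (pCat P) (a ≫ n) ⁻¹ᵁ StMod.bmap 𝒴 b.hom ⁻¹ᵁ U := by
        rw [StMod.bmap_comp]; exact Scheme.Hom.preimage_mono _ hn
      have hc : V' ≤ StMod.bmap (pCat P) (e ≫ n' k) ⁻¹ᵁ U := hb.trans (h2.preimage U).le
      refine (res_comp F a m _ le_rfl ha _).symm.trans (Eq.trans ?_ (res_comp F a n hn le_rfl hb _))
      exact (tr_spec F hF hinv hfull _ s x' _ _ h1 V' ha hc).trans
        (tr_spec F hF hinv hfull _ s x' _ _ h2 V' hb hc).symm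
    refine Eq.trans ?_ key
    rw [Scheme.Modules.Hom.comp_app, Scheme.Modules.pushforwardCongr_hom_app_app]
    rfl

theorem pushMod_map {z' z : (indCat P.obj).obj} (b : z' ⟶ z) :
    (pushMod F hF hinv hfull).map b rfl = trHom F hF hinv hfull b := by
  show trHom F hF hinv hfull b ≫ (Scheme.Modules.pushforwardCongr rfl).hom.app _ = _
  rw [StMod.pushforwardCongr_hom_app_self, Category.comp_id]

theorem res_pushMod {z' z : (indCat P.obj).obj} (b : z' ⟶ z) {U : (StMod.sch (pCat P) z).Opens}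
    {V : (StMod.sch (pCat P) z').Opens} (h : V ≤ StMod.bmap 𝒴 b.hom ⁻¹ᵁ U) (s : Γ(F.obj z, U)) :
    res (pushMod F hF hinv hfull) b h s = (F.obj z').presheaf.map (homOfLE h).op (tr F hF hinv hfull b.hom s) := by
  show ((pushMod F hF hinv hfull).obj z').presheaf.map (homOfLE h).op
    (((pushMod F hF hinv hfull).map b rfl).app U s) = _
  rw [pushMod_map]
  rfl

theorem isQCoh_pushMod : StMod.isQCoh (indCat P.obj) (pushMod F hF hinv hfull) := by
  refine ⟨fun z' z b g hg => ?_, fun z => hF.2 z⟩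
  subst hg
  rw [pushMod_map]
  haveI : Coh.IsQCoh (X := StMod.sch (indCat P.obj) z) (F.obj z) := hF.2 z
  haveI : Coh.IsQCoh (X := StMod.sch (indCat P.obj) z') (F.obj z') := hF.2 z'
  haveI : Coh.IsQCoh (X := StMod.sch 𝒴 (P.obj z)) (F.obj z) := hF.2 z
  haveI : Coh.IsQCoh (X := StMod.sch 𝒴 (P.obj z')) (F.obj z') := hF.2 z'
  haveI : Coh.IsQCoh ((Scheme.Modules.pullback (StMod.bmap 𝒴 b.hom)).obj (F.obj z)) :=
    isQCoh_pullback (StMod.bmap 𝒴 b.hom) (F.obj z : (StMod.sch 𝒴 (P.obj z)).Modules)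
  let ad' : (Scheme.Modules.pullback (StMod.bmap 𝒴 b.hom)).obj (F.obj z) ⟶ F.obj z' :=
    ((Scheme.Modules.pullbackPushforwardAdjunction (StMod.bmap 𝒴 b.hom)).homEquiv _ _).symm
      (trHom F hF hinv hfull b)
  obtain ⟨d, n, hd⟩ := exists_lift_cover hfull b.hom
  show IsIso ad'
  refine isIso_of_pullback_family d.mem_fpqc ad' fun k => ?_
  have e : StMod.bmap (pCat P) (d.hom k) ≫ StMod.bmap 𝒴 b.hom = StMod.bmap (pCat P) (n k) :=
    (StMod.bmap_comp _ _).symm.trans (congrArg (StMod.bmap 𝒴) (hd k))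
  haveI := isIso_ad F hF.1 (d.hom k)
  haveI := isIso_ad F hF.1 (n k)
  have key : (cmpIso (F.obj z) (StMod.bmap (pCat P) (d.hom k)) e).inv ≫
      (Scheme.Modules.pullback (StMod.bmap (pCat P) (d.hom k))).map ad' ≫ ad F (d.hom k) = ad F (n k) := by
    refine hom_ext_pullMap _ _ fun U s => ?_
    have h1 : StMod.bmap (pCat P) (n k) ⁻¹ᵁ U ≤
        StMod.bmap (pCat P) (d.hom k) ⁻¹ᵁ (StMod.bmap 𝒴 b.hom ⁻¹ᵁ U) := ((hd k).preimage U).ge
    have had : ad'.app (StMod.bmap 𝒴 b.hom ⁻¹ᵁ U) (pullMap (StMod.bmap 𝒴 b.hom) (F.obj z) le_rfl s) =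
        tr F hF hinv hfull b.hom s := by
      rw [← homEquiv_app (StMod.bmap 𝒴 b.hom) (F.obj z) ad' le_rfl, restr_self]
      simp only [ad', Equiv.apply_symm_apply]
      rfl
    simp only [Scheme.Modules.Hom.comp_app, ConcreteCategory.comp_apply]
    rw [FamilyDesc.cmp_inv_pullMap (StMod.bmap (pCat P) (d.hom k)) e (le_refl (StMod.bmap 𝒴 b.hom ⁻¹ᵁ U)) h1 le_rfl,
      pullMap_natural, had, ad_pullMap, ad_pullMap]
    exact tr_spec F hF hinv hfull b.hom s _ _ _ (hd k) _ h1 le_rfl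
  haveI : IsIso ((cmpIso (F.obj z) (StMod.bmap (pCat P) (d.hom k)) e).inv ≫
      (Scheme.Modules.pullback (StMod.bmap (pCat P) (d.hom k))).map ad' ≫ ad F (d.hom k)) := key ▸ inferInstance
  show IsIso ((Scheme.Modules.pullback (StMod.bmap (pCat P) (d.hom k))).map ad')
  haveI := IsIso.of_isIso_comp_left (cmpIso (F.obj z) (StMod.bmap (pCat P) (d.hom k)) e).inv
    ((Scheme.Modules.pullback (StMod.bmap (pCat P) (d.hom k))).map ad' ≫ ad F (d.hom k))
  exact IsIso.of_isIso_comp_right _ (ad F (d.hom k))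

/-- The module on the image restricts back. -/
def pushIso : F ≅ StMod.Mod.comap (jFun P) (pushMod F hF hinv hfull) :=
  StMod.Mod.isoMk (fun z => Iso.refl _) fun z' z φ g hg => by
    subst hg
    ext U s
    show (F.map φ rfl).app U s = ((StMod.Mod.comap (jFun P) (pushMod F hF hinv hfull)).map φ rfl).app U s
    rw [StMod.Mod.comap_map]
    erw [StMod.castMap_rfl_self]
    erw [pushMod_map]
    show _ = tr F hF hinv hfull (P.map φ) s
    refine isTr_unique F hF hfull (fun x m n h V hm hn => ?_) (tr_spec F hF hinv hfull (P.map φ) s)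
    have h1 : V ≤ StMod.bmap (pCat P) (m ≫ φ) ⁻¹ᵁ U := by rw [StMod.bmap_comp]; exact hm
    have e : (F.map φ rfl).app U s = res F φ le_rfl s := (restr_self _ le_rfl _).symm
    erw [e, ← res_comp F m φ le_rfl hm h1]
    exact hinv _ _ ((P.map_comp m φ).trans h) h1 hn s

theorem res_comap_jFun (G : StMod.Mod (indCat P.obj)) {x' x : D} (φ : x' ⟶ x) {U : (StMod.sch (pCat P) x).Opens}
    {U' : (StMod.sch (pCat P) x').Opens} (h : U' ≤ StMod.bmap (pCat P) φ ⁻¹ᵁ U) (s : Γ(G.obj x, U)) :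
    res (StMod.Mod.comap (jFun P) G) φ h s = res G ((jFun P).map φ) h s := by
  unfold res
  rw [StMod.Mod.comap_map]
  erw [StMod.castMap_rfl_self]
  rfl

include hfull in
/-- Morphisms descend to the image. -/
theorem existsUnique_hom_jFun (G H : StMod.Mod (indCat P.obj)) (hH : StMod.isQCoh (indCat P.obj) H)
    (w : StMod.Mod.comap (jFun P) G ⟶ StMod.Mod.comap (jFun P) H) :
    ∃! v : G ⟶ H, StMod.Mod.comapMap (jFun P) v = w := by
  have hw : ∀ {x' x : D} (φ : x' ⟶ x) {U : (StMod.sch (pCat P) x).Opens} {U' : (StMod.sch (pCat P) x').Opens}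
      (h : U' ≤ StMod.bmap (pCat P) φ ⁻¹ᵁ U) (s : Γ(G.obj x, U)),
      (w.app x').app U' (res G ((jFun P).map φ) h s) = res H ((jFun P).map φ) h ((w.app x).app U s) := by
    intro x' x φ U U' h s
    have e := ConcreteCategory.congr_hom (congrArg (fun p => Scheme.Modules.Hom.app p U) (w.comm φ rfl)) s
    rw [← res_comap_jFun G φ h s]
    refine Eq.trans ?_ (res_comap_jFun H φ h _)
    refine (QCohLib.app_res (w.app x') h _).trans ?_
    exact congrArg _ e
  refine ⟨⟨fun z => w.app z, fun {z' z} b g hg => ?_⟩, ?_, fun v hv => ?_⟩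
  · subst hg
    ext U s
    show (w.app z').app (StMod.bmap (indCat P.obj) b ⁻¹ᵁ U) ((G.map b rfl).app U s) =
      (H.map b rfl).app U ((w.app z).app U s)
    rw [show (G.map b rfl).app U s = res G b le_rfl s from (restr_self _ le_rfl _).symm]
    erw [show (H.map b rfl).app U ((w.app z).app U s) = res H b le_rfl ((w.app z).app U s) from
      (restr_self _ le_rfl _).symm]
    obtain ⟨d, n, hd⟩ := exists_lift_cover hfull b.hom
    refine eq_of_res H hH _ _ fun t ht => ?_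
    obtain ⟨k, v, hv⟩ := d.cov t
    let m' : (show (indCat P.obj).obj from d.obj k) ⟶ z' := (jFun P).map (d.hom k)
    refine ⟨_, m', d.flat k, v, StMod.bmap (indCat P.obj) m' ⁻¹ᵁ (StMod.bmap (indCat P.obj) b ⁻¹ᵁ U), le_rfl,
      show StMod.bmap (pCat P) (d.hom k) v ∈ StMod.bmap (indCat P.obj) b ⁻¹ᵁ U by rw [hv]; exact ht, hv, ?_⟩
    have hn : (jFun P).map (n k) = m' ≫ b := InducedCategory.hom_ext (hd k).symm
    have h1 : StMod.bmap (indCat P.obj) m' ⁻¹ᵁ (StMod.bmap (indCat P.obj) b ⁻¹ᵁ U) ≤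
        StMod.bmap (indCat P.obj) (m' ≫ b) ⁻¹ᵁ U := by rw [StMod.bmap_comp]; exact le_rfl
    have h2 := hn.symm ▸ h1
    refine Eq.trans ?_ ((res_congr H hn h2 h1 _).trans (res_comp H m' b le_rfl le_rfl h1 _))
    refine Eq.trans ?_ (hw (n k) h2 s)
    refine (hw (d.hom k) le_rfl _).symm.trans (congrArg _ ?_)
    exact (res_comp G m' b le_rfl le_rfl h1 s).symm.trans (res_congr G hn.symm h1 h2 s)
  · exact StMod.Mod.hom_ext fun z => rfl
  · refine StMod.Mod.hom_ext fun z => ?_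
    have e : (StMod.Mod.comapMap (jFun P) v).app z = w.app z := by rw [show StMod.Mod.comapMap (jFun P) v = w from hv]
    exact e

end Groth.Agent.GerbeExtLib
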