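import Groth.Agent.GerbeExtLib.Ext
import Groth.Agent.GerbeExtLib.Push
import Groth.Prelude.Def_TwSh

/-!
# Quasi-coherent modules on a banded gerbe and on its base
-/

set_option autoImplicit false
set_option backward.isDefEq.respectTransparency false
set_option linter.style.haveILetI false
set_option linter.unusedSectionVars false
set_option maxHeartbeats 800000

universe w w' v v' u

open CategoryTheory CategoryTheory.Limits AlgebraicGeometry TopologicalSpace Opposite
open Groth.Agent.CohBase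

noncomputable section

namespace Groth.Agent.GerbeExtLib

variable {S : Scheme.{u}} {𝒴 : BasedCategory.{v', w'} (Over S)} {D : Type w} [Category.{v} D] {P : D ⥤ 𝒴.obj}
  [FibCat.IsFibGrpd 𝒴.p] [FibCat.IsFibGrpd (pCat P).p]

/-- An untwisted module only sees the image of an arrow. -/
theorem inv_of_isTwisted_zero {A : (Over S)ᵒᵖ ⥤ GrpCat.{u}} (χ : A ⟶ TwSh.GmPsh S) (ι : TwSh.BandHom (pCat P) A)
    (hker : ∀ x : D, (ι.hom x).range = (Gerb.autMap (pFun P) x).ker) (F : StMod.Mod (pCat P))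
    (htw : TwSh.IsTwisted F ι χ 0) : Inv F := by
  intro x' x φ φ' hP U U' h h' s
  have hp : (pCat P).p.map φ = (pCat P).p.map φ' := congrArg 𝒴.p.map hP
  obtain ⟨α, hα, hα'⟩ := exists_fac_over (𝒵 := pCat P) φ φ' (𝟙 _) (by rw [Category.id_comp, hp])
  obtain ⟨β, hβ, hβ'⟩ := exists_fac_over (𝒵 := pCat P) φ' φ (𝟙 _) (by rw [Category.id_comp, hp])
  have e1 : α ≫ β = 𝟙 x' := hom_ext_over φ' (by rw [Functor.map_comp, hα, hβ, Category.id_comp,
    CategoryTheory.Functor.map_id]) (by rw [Category.assoc, Category.id_comp]; exact (congrArg (α ≫ ·) hβ').trans hα')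
  have e2 : β ≫ α = 𝟙 x' := hom_ext_over φ (by rw [Functor.map_comp, hα, hβ, Category.id_comp,
    CategoryTheory.Functor.map_id]) (by rw [Category.assoc, Category.id_comp]; exact (congrArg (β ≫ ·) hα').trans hβ')
  have hlα : (pCat P).p.IsHomLift (𝟙 ((pCat P).p.obj x')) α := by rw [← hα]; infer_instance
  have hlβ : (pCat P).p.IsHomLift (𝟙 ((pCat P).p.obj x')) β := by rw [← hβ]; infer_instance
  let a' : Gerb.AutO (𝒳 := pCat P) x' :=
    { hom := ⟨α, hlα⟩
      inv := ⟨β, hlβ⟩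
      hom_inv_id := Functor.Fiber.hom_ext e1
      inv_hom_id := Functor.Fiber.hom_ext e2 }
  have hker' : a' ∈ (Gerb.autMap (pFun P) x').ker := by
    refine MonoidHom.mem_ker.2 (Aut.ext (Functor.Fiber.hom_ext ?_))
    show P.map α = 𝟙 (P.obj x')
    refine hom_ext_over (P.map φ) ?_ ?_
    · rw [CategoryTheory.Functor.map_id]; exact hα
    · rw [Category.id_comp, ← P.map_comp, hα', hP]
  rw [← hker x'] at hker'
  obtain ⟨a, ha⟩ := hker'
  have hid : ∀ {V : (StMod.sch (pCat P) x').Opens} (t : Γ(F.obj x', V)) (hV : V ≤ StMod.bmap (pCat P) α ⁻¹ᵁ V),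
      res F α hV t = t := by
    intro V t hV
    rw [res_eq_map F α (g := 𝟙 _) (by exact congrArg CommaMorphism.left hα) hV le_rfl]
    refine (restr_self _ _ _).trans ?_
    have h1 := htw x' a V t
    rw [TwSh.inert_app_apply] at h1
    refine Eq.trans ?_ (h1.trans ?_)
    · have key : ∀ (β' : x' ⟶ x') (_ : β' = α) (hb : StMod.bmap (pCat P) β' = 𝟙 _),
          (F.map α (g := 𝟙 _) (congrArg CommaMorphism.left hα)).app V t = (F.map β' hb).app V t := by
        rintro β' rfl hb; rfl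
      exact key _ (congrArg (fun g : Gerb.AutO (𝒳 := pCat P) x' => g.hom.1) ha) _
    · simp only [zpow_zero, inv_one, Units.val_one, map_one, one_smul]
  have hU : U' ≤ StMod.bmap (pCat P) α ⁻¹ᵁ U' := by
    rw [show StMod.bmap (pCat P) α = 𝟙 _ from congrArg CommaMorphism.left hα]; exact le_rfl
  have h3 : U' ≤ StMod.bmap (pCat P) (α ≫ φ) ⁻¹ᵁ U := by rw [hα']; exact h'
  rw [← hid (res F φ h s) hU, ← res_comp F α φ h hU h3]
  exact res_congr F hα' h3 h' s

/-- Inverse image along a locally surjective functor is fully faithful; untwisted modules descend. -/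
theorem fullyFaithful_and_essImage (hobj : Gerb.LocSurjObj (QuotSh.J Scheme.fppfPrecoverage S) (pFun P))
    (hfull : Gerb.LocSurjHom (QuotSh.J Scheme.fppfPrecoverage S) (pFun P)) :
    ((StMod.comapQ (pFun P)).Full ∧ (StMod.comapQ (pFun P)).Faithful) ∧
      ∀ F : StMod.QCoh (pCat P), Inv F.obj → ∃ G : StMod.QCoh 𝒴, Nonempty (F ≅ (StMod.comapQ (pFun P)).obj G) := by
  have hcov := locSurjObj_indIncl P hobj
  refine ⟨⟨⟨fun {G H} w => ?_⟩, ⟨fun {G H u₁ u₂} h => ?_⟩⟩, fun F hinv => ?_⟩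
  · let e := fun K : StMod.Mod 𝒴 => StMod.comapCompIso (indIncl P.obj) (jFun P) K
    obtain ⟨v₁, hv₁, -⟩ := existsUnique_hom_jFun hfull _ _ (StMod.isQCoh_comap (f := indIncl P.obj) H.property)
      ((e G.obj).inv ≫ w.hom ≫ (e H.obj).hom)
    obtain ⟨v₂, hv₂, -⟩ := existsUnique_hom hcov G.obj H.obj H.property v₁
    refine ⟨⟨v₂⟩, ObjectProperty.hom_ext _ (StMod.Mod.hom_ext fun x => ?_)⟩
    have h1 := congrArg (fun p => StMod.Mod.Hom.app p x) hv₁
    have h2 : (StMod.Mod.comapMap (indIncl P.obj) v₂).app x = v₁.app x := by rw [hv₂]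
    refine Eq.trans ?_ (h1.trans ?_)
    · exact h2
    · ext U s; rfl
  · have hi : ∀ (K : StMod.Mod 𝒴), StMod.isQCoh 𝒴 K → StMod.isQCoh (indCat P.obj) (StMod.Mod.comap (indIncl P.obj) K) :=
      fun K hK => StMod.isQCoh_comap hK
    obtain ⟨_, -, huniq⟩ := existsUnique_hom hcov G.obj H.obj H.property (StMod.Mod.comapMap (indIncl P.obj) u₁.hom)
    refine ObjectProperty.hom_ext _ ((huniq u₁.hom rfl).trans (huniq u₂.hom ?_).symm)
    refine StMod.Mod.hom_ext fun x => ?_
    have h' : StMod.Mod.comapMap (pFun P) u₁.hom = StMod.Mod.comapMap (pFun P) u₂.hom :=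
      congrArg (fun p : (StMod.comapQ (pFun P)).obj G ⟶ (StMod.comapQ (pFun P)).obj H => p.hom) h
    have h'' : (StMod.Mod.comapMap (pFun P) u₁.hom).app x = (StMod.Mod.comapMap (pFun P) u₂.hom).app x := by rw [h']
    exact h''.symm
  · let F₁ := pushMod F.obj F.property hinv hfull
    obtain ⟨G, hG, ⟨e⟩⟩ := exists_ext F₁ (isQCoh_pushMod F.obj F.property hinv hfull) hcov
    refine ⟨⟨G, hG⟩, ⟨ObjectProperty.isoMk _ ?_⟩⟩
    exact pushIso F.obj F.property hinv hfull ≪≫ (StMod.comapFunctor (jFun P)).mapIso e ≪≫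
      (StMod.comapCompIso (indIncl P.obj) (jFun P) G).symm

end Groth.Agent.GerbeExtLib
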