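import Groth.Agent.GerbeExtLib.Ad

/-!
# Gluing sections along flat coverings by arrows
-/

set_option autoImplicit false
set_option backward.isDefEq.respectTransparency false
set_option linter.style.haveILetI false
set_option maxHeartbeats 800000

universe w v u

open CategoryTheory CategoryTheory.Limits AlgebraicGeometry TopologicalSpace Opposite
open Groth.Agent.PullbackMod Groth.Agent.CohBase Groth.Agent.FpqcQCoh

noncomputable section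

namespace Groth.Agent.GerbeExtLib

variable {S : Scheme.{u}} {𝒵 : BasedCategory.{v, w} (Over S)}

/-- An fppf covering of an object by arrows. -/
structure FCover (x : 𝒵.obj) where
  /-- The index type. -/
  I : Type u
  /-- The sources. -/
  obj : I → 𝒵.obj
  /-- The arrows. -/
  hom : ∀ k, obj k ⟶ x
  flat : ∀ k, Flat (StMod.bmap 𝒵 (hom k))
  lfp : ∀ k, LocallyOfFinitePresentation (StMod.bmap 𝒵 (hom k))
  cov : ∀ t : StMod.sch 𝒵 x, ∃ k, t ∈ Set.range (StMod.bmap 𝒵 (hom k))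

attribute [instance] FCover.flat

theorem FCover.mem_fpqc {x : 𝒵.obj} (c : FCover x) :
    Presieve.ofArrows (fun k => StMod.sch 𝒵 (c.obj k)) (fun k => StMod.bmap 𝒵 (c.hom k)) ∈
      Scheme.fpqcPrecoverage (StMod.sch 𝒵 x) :=
  Scheme.fppfPrecoverage_le_fpqcPrecoverage _
    ((Scheme.presieve₀_mem_precoverage_iff (P := @Flat ⊓ @LocallyOfFinitePresentation)
      (E := ({ I₀ := c.I, X := fun k => StMod.sch 𝒵 (c.obj k), f := fun k => StMod.bmap 𝒵 (c.hom k) } :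
        PreZeroHypercover.{u} (StMod.sch 𝒵 x)))).mpr ⟨c.cov, fun k => ⟨c.flat k, c.lfp k⟩⟩)

variable (F : StMod.Mod 𝒵) [FibCat.IsFibGrpd 𝒵.p]

/-- The agreement condition on a family of sections. -/
def Agree {x : 𝒵.obj} (c : FCover x) (U : (StMod.sch 𝒵 x).Opens)
    (s : ∀ k, Γ(F.obj (c.obj k), StMod.bmap 𝒵 (c.hom k) ⁻¹ᵁ U)) : Prop :=
  ∀ (k l : c.I) (z : 𝒵.obj) (m : z ⟶ c.obj k) (n : z ⟶ c.obj l), m ≫ c.hom k = n ≫ c.hom l →
    ∀ (V : (StMod.sch 𝒵 z).Opens) (hm : V ≤ StMod.bmap 𝒵 m ⁻¹ᵁ StMod.bmap 𝒵 (c.hom k) ⁻¹ᵁ U)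
      (hn : V ≤ StMod.bmap 𝒵 n ⁻¹ᵁ StMod.bmap 𝒵 (c.hom l) ⁻¹ᵁ U), res F m hm (s k) = res F n hn (s l)

omit [FibCat.IsFibGrpd 𝒵.p] in
theorem eq_of_res_cover (hF : StMod.isQCoh 𝒵 F) {x : 𝒵.obj} (c : FCover x) {U : (StMod.sch 𝒵 x).Opens}
    (s s' : Γ(F.obj x, U)) (h : ∀ k, res F (c.hom k) le_rfl s = res F (c.hom k) le_rfl s') : s = s' :=
  eq_of_res F hF s s' fun t ht => by
    obtain ⟨k, v, rfl⟩ := c.cov t
    exact ⟨_, c.hom k, inferInstance, v, _, le_rfl, ht, rfl, h k⟩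

theorem exists_glue_affine (hF : StMod.isQCoh 𝒵 F) {x : 𝒵.obj} (c : FCover x) {U : (StMod.sch 𝒵 x).Opens}
    (hU : IsAffineOpen U) (s : ∀ k, Γ(F.obj (c.obj k), StMod.bmap 𝒵 (c.hom k) ⁻¹ᵁ U)) (hs : Agree F c U s) :
    ∃ n : Γ(F.obj x, U), ∀ k, res F (c.hom k) le_rfl n = s k := by
  let f := fun k => StMod.bmap 𝒵 (c.hom k)
  let N := F.obj x
  haveI : Coh.IsQCoh N := hF.2 x
  obtain ⟨κ, _, i, O, hO, hle, hcov⟩ := exists_family_lift f c.mem_fpqc hU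
  haveI : ∀ k, IsIso (ad F (c.hom k)) := fun k => isIso_ad F hF.1 _
  let y : ∀ p : κ, Γ((Scheme.Modules.pullback (f (i p))).obj N, O p) := fun p =>
    (inv (ad F (c.hom (i p)))).app (O p) ((F.obj (c.obj (i p))).presheaf.map (homOfLE (hle p)).op (s (i p)))
  have hy : ∀ p, (ad F (c.hom (i p))).app (O p) (y p) =
      (F.obj (c.obj (i p))).presheaf.map (homOfLE (hle p)).op (s (i p)) := fun p =>
    congr($(IsIso.inv_hom_id (ad F (c.hom (i p)))).app (O p) _)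
  obtain ⟨n, hn⟩ := (sections_family f N hU i O hO hle hcov).2 y fun p q T a b e V ha hb => by
    obtain ⟨z, e₀, m, m', hm, hm', hmm⟩ := exists_fill (c.hom (i p)) (c.hom (i q)) a b e.symm
    let O' := StMod.bmap 𝒵 m ⁻¹ᵁ O p ⊓ StMod.bmap 𝒵 m' ⁻¹ᵁ O q
    have hV : V ≤ e₀.hom ⁻¹ᵁ O' := fun v hv =>
      ⟨show StMod.bmap 𝒵 m (e₀.hom v) ∈ O p by rw [← Scheme.Hom.comp_apply, hm]; exact ha hv,
        show StMod.bmap 𝒵 m' (e₀.hom v) ∈ O q by rw [← Scheme.Hom.comp_apply, hm']; exact hb hv⟩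
    have he : e₀.hom ≫ StMod.bmap 𝒵 (m ≫ c.hom (i p)) = a ≫ f (i p) := by
      rw [StMod.bmap_comp, ← Category.assoc, hm]
    haveI := isIso_cA F hF.1 (m ≫ c.hom (i p)) e₀.hom (a ≫ f (i p)) he
    apply (ConcreteCategory.bijective_of_isIso
      ((cA F (m ≫ c.hom (i p)) e₀.hom (a ≫ f (i p)) he).app V)).1
    rw [cA_plMap F m (c.hom (i p)) e₀.hom a hm _ rfl he ha inf_le_left hV]
    have key : ∀ (φ : z ⟶ x) (_ : φ = m ≫ c.hom (i p)) (hφ : e₀.hom ≫ StMod.bmap 𝒵 φ = a ≫ f (i p)),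
        (cA F (m ≫ c.hom (i p)) e₀.hom (a ≫ f (i p)) he) = cA F φ e₀.hom (a ≫ f (i p)) hφ := by
      rintro φ rfl hφ; rfl
    rw [key (m' ≫ c.hom (i q)) hmm.symm (by rw [← hmm]; exact he),
      cA_plMap F m' (c.hom (i q)) e₀.hom b hm' _ e _ hb inf_le_right hV, hy, hy, res_restr, res_restr]
    exact congrArg _ (hs (i p) (i q) z m m' hmm O' _ _)
  have hn' : ∀ p, res F (c.hom (i p)) (hle p) n =
      (F.obj (c.obj (i p))).presheaf.map (homOfLE (hle p)).op (s (i p)) := fun p => by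
    rw [← ad_pullMap, hn p, hy]
  refine ⟨n, fun k => eq_of_res F hF _ _ fun v hv => ?_⟩
  obtain ⟨p, w, hw, hwv⟩ := hcov (StMod.bmap 𝒵 (c.hom k) v) hv
  obtain ⟨z, m, m', u, hmm, hflat, hu, hu'⟩ := exists_fill_point (c.hom k) (c.hom (i p)) v w hwv.symm
  let O' := StMod.bmap 𝒵 m ⁻¹ᵁ StMod.bmap 𝒵 (c.hom k) ⁻¹ᵁ U ⊓ StMod.bmap 𝒵 m' ⁻¹ᵁ O p
  refine ⟨z, m, hflat, u, O', inf_le_left, ⟨show StMod.bmap 𝒵 m u ∈ StMod.bmap 𝒵 (c.hom k) ⁻¹ᵁ U by rw [hu]; exact hv,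
    show StMod.bmap 𝒵 m' u ∈ O p by rw [hu']; exact hw⟩, hu, ?_⟩
  have h1 : O' ≤ StMod.bmap 𝒵 (m ≫ c.hom k) ⁻¹ᵁ U := by rw [StMod.bmap_comp]; exact inf_le_left
  rw [← res_comp F m (c.hom k) le_rfl inf_le_left h1, res_congr F hmm h1 (hmm ▸ h1),
    res_comp F m' (c.hom (i p)) (hle p) inf_le_right, hn', res_restr]
  exact (hs k (i p) z m m' hmm O' inf_le_left _).symm

/-- Agreeing families glue. -/
theorem exists_glue (hF : StMod.isQCoh 𝒵 F) {x : 𝒵.obj} (c : FCover x) (U : (StMod.sch 𝒵 x).Opens)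
    (s : ∀ k, Γ(F.obj (c.obj k), StMod.bmap 𝒵 (c.hom k) ⁻¹ᵁ U)) (hs : Agree F c U s) :
    ∃ n : Γ(F.obj x, U), ∀ k, res F (c.hom k) le_rfl n = s k := by
  let J := {W : (StMod.sch 𝒵 x).Opens // IsAffineOpen W ∧ W ≤ U}
  have hloc : ∀ W : J, ∃ n : Γ(F.obj x, W.1), ∀ k, res F (c.hom k) le_rfl n =
      (F.obj (c.obj k)).presheaf.map (homOfLE ((StMod.bmap 𝒵 (c.hom k)).preimage_mono W.2.2)).op (s k) := fun W =>
    exists_glue_affine F hF c W.2.1 _ fun k l z m n h V hm hn => by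
      rw [res_restr, res_restr]; exact hs k l z m n h V _ _
  choose n hn using hloc
  have hU : U ≤ ⨆ W : J, W.1 := fun t ht => by
    obtain ⟨_, ⟨W, hW, rfl⟩, htW, hWU⟩ :=
      (StMod.sch 𝒵 x).isBasis_affineOpens.exists_subset_of_mem_open ht U.2
    exact Opens.mem_iSup.2 ⟨⟨W, hW, hWU⟩, htW⟩
  obtain ⟨g, hg, -⟩ := TopCat.Sheaf.existsUnique_gluing' (⟨(F.obj x).presheaf, (F.obj x).isSheaf⟩ :
      TopCat.Sheaf Ab.{u} (StMod.sch 𝒵 x).carrier) (fun W : J => W.1) U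
    (fun W => homOfLE W.2.2) hU n fun W W' => by
      show (F.obj x).presheaf.map (homOfLE inf_le_left).op (n W) = (F.obj x).presheaf.map (homOfLE inf_le_right).op (n W')
      refine eq_of_res_cover F hF c _ _ fun k => ?_
      rw [res_restr, res_restr, ← restr_res F (c.hom k) le_rfl ((StMod.bmap 𝒵 (c.hom k)).preimage_mono inf_le_left),
        ← restr_res F (c.hom k) le_rfl ((StMod.bmap 𝒵 (c.hom k)).preimage_mono inf_le_right), hn, hn, restr_trans,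
        restr_trans]
  refine ⟨g, fun k => ?_⟩
  refine FamilyDesc.eq_of_cover _ (fun W : J => StMod.bmap 𝒵 (c.hom k) ⁻¹ᵁ W.1)
    (fun W => (StMod.bmap 𝒵 (c.hom k)).preimage_mono W.2.2) (fun t ht => ?_) _ _ fun W => ?_
  · obtain ⟨W, hW⟩ := Opens.mem_iSup.1 (hU ht)
    exact Opens.mem_iSup.2 ⟨W, hW⟩
  · rw [restr_res, ← hn W k, ← res_restr F (c.hom k) W.2.2 le_rfl]
    exact congrArg _ (hg W)

end Groth.Agent.GerbeExtLib
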