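import Groth.Agent.GerbeExtLib.Glue
import Groth.Prelude.Def_StMod6
import Groth.Prelude.Def_StGerb
import Groth.Agent.ASp.CellSheaf

/-!
# Full subcategories of a category over schemes meeting every object locally
-/

set_option autoImplicit false
set_option backward.isDefEq.respectTransparency false
set_option linter.style.haveILetI false
set_option linter.unusedSectionVars false
set_option maxHeartbeats 800000

universe w w' v' u

open CategoryTheory CategoryTheory.Limits AlgebraicGeometry TopologicalSpace Opposite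
open Groth.Agent.PullbackMod Groth.Agent.CohBase Groth.Agent.FpqcQCoh

noncomputable section

namespace Groth.Agent.GerbeExtLib

variable {S : Scheme.{u}} {𝒴 : BasedCategory.{v', w'} (Over S)} {O : Type w} (o : O → 𝒴.obj)

/-- The category induced along a map on objects, over the base. -/
abbrev indCat : BasedCategory.{v', w} (Over S) where
  obj := InducedCategory 𝒴.obj o
  p := inducedFunctor o ⋙ 𝒴.p

/-- Its inclusion. -/
def indIncl : indCat o ⥤ᵇ 𝒴 where
  toFunctor := inducedFunctor o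
  w := rfl

variable {o}

/-- An arrow of the induced category. -/
def indHom {z' z : (indCat o).obj} (f : o z' ⟶ o z) : z' ⟶ z := InducedCategory.homMk f

theorem indHom_hom {z' z : (indCat o).obj} (φ : z' ⟶ z) : indHom (o := o) φ.hom = φ := InducedCategory.hom_ext rfl

theorem ind_hom_ext {z' z : (indCat o).obj} {φ ψ : z' ⟶ z} (h : φ.hom = ψ.hom) : φ = ψ :=
  InducedCategory.hom_ext h

/-- A covering of an object by objects of the image. -/
structure ICover (o : O → 𝒴.obj) (y : 𝒴.obj) where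
  /-- The index type. -/
  I : Type u
  /-- The objects. -/
  z : I → (indCat o).obj
  /-- The arrows. -/
  g : ∀ i, o (z i) ⟶ y
  flat : ∀ i, Flat (StMod.bmap 𝒴 (g i))
  lfp : ∀ i, LocallyOfFinitePresentation (StMod.bmap 𝒴 (g i))
  cov : ∀ t : StMod.sch 𝒴 y, ∃ i, t ∈ Set.range (StMod.bmap 𝒴 (g i))

attribute [instance] ICover.flat ICover.lfp

/-- The arrows of an `ICover` as a covering in the ambient category. -/
def ICover.toF {y : 𝒴.obj} (c : ICover o y) : FCover y := ⟨c.I, fun i => o (c.z i), c.g, c.flat, c.lfp, c.cov⟩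

theorem nonempty_icover (h : Gerb.LocSurjObj (QuotSh.J Scheme.fppfPrecoverage S) (indIncl o)) (y : 𝒴.obj) :
    Nonempty (ICover o y) := by
  obtain ⟨R, hR, hmem⟩ := h y
  obtain ⟨ι, Y, k, hk, hflat, hlfp, hcov⟩ := ASp.Cell.exists_fppf_family (T := 𝒴.p.obj y) (R := R) hR
  choose z g hg using fun i => hmem (k i) (hk i)
  have hd : ∀ i, 𝒴.p.obj (o (z i)) = Y i := fun i => by
    haveI := hg i
    exact IsHomLift.domain_eq 𝒴.p (k i) (g i)
  have hb : ∀ i, StMod.bmap 𝒴 (g i) = (eqToHom (hd i)).left ≫ (k i).left := fun i => by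
    haveI := hg i
    have h1 : 𝒴.p.map (g i) = eqToHom (hd i) ≫ k i := by simpa using IsHomLift.fac' 𝒴.p (k i) (g i)
    exact congrArg CommaMorphism.left h1
  haveI : ∀ i, IsIso (eqToHom (hd i)).left := fun i => inferInstanceAs (IsIso ((Over.forget S).map (eqToHom (hd i))))
  refine ⟨⟨ι, z, g, fun i => ?_, fun i => ?_, fun t => ?_⟩⟩
  · rw [hb i]; haveI := hflat i; infer_instance
  · rw [hb i]; haveI := hlfp i; infer_instance
  · obtain ⟨i, v, hv⟩ := hcov t
    obtain ⟨v', hv'⟩ := (eqToHom (hd i)).left.surjective v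
    exact ⟨i, v', by rw [hb i]; exact (congrArg (k i).left hv').trans hv⟩

variable [FibCat.IsFibGrpd (indCat o).p] [FibCat.IsFibGrpd 𝒴.p]

/-- Two arrows to one object meet over a scheme mapping compatibly to both. -/
theorem exists_roof {y : 𝒴.obj} {z₁ z₂ : (indCat o).obj} (α₁ : o z₁ ⟶ y) (α₂ : o z₂ ⟶ y) {W : Scheme.{u}}
    (a : W ⟶ StMod.sch (indCat o) z₁) (b : W ⟶ StMod.sch (indCat o) z₂)
    (w : a ≫ StMod.bmap 𝒴 α₁ = b ≫ StMod.bmap 𝒴 α₂) :
    ∃ (z : (indCat o).obj) (e : W ≅ StMod.sch (indCat o) z) (m : z ⟶ z₁) (n : z ⟶ z₂),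
      e.hom ≫ StMod.bmap (indCat o) m = a ∧ e.hom ≫ StMod.bmap (indCat o) n = b ∧ m.hom ≫ α₁ = n.hom ≫ α₂ := by
  obtain ⟨z, e, m, hm⟩ := exists_lift z₁ a
  obtain ⟨χ, hχ, hχ'⟩ := exists_fac α₂ (m.hom ≫ α₁) (e.inv ≫ b) (by
    rw [Category.assoc, ← w, ← hm, StMod.bmap_comp, Category.assoc, Iso.inv_hom_id_assoc]
    rfl)
  refine ⟨z, e, m, indHom χ, hm, ?_, hχ'.symm⟩
  show e.hom ≫ StMod.bmap 𝒴 χ = b
  rw [hχ, Iso.hom_inv_id_assoc]

/-- Meeting over a point. -/
theorem exists_roof_point {y : 𝒴.obj} {z₁ z₂ : (indCat o).obj} (α₁ : o z₁ ⟶ y) (α₂ : o z₂ ⟶ y)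
    [Flat (StMod.bmap 𝒴 α₂)] [LocallyOfFinitePresentation (StMod.bmap 𝒴 α₂)]
    (v₁ : StMod.sch (indCat o) z₁) (v₂ : StMod.sch (indCat o) z₂)
    (h : StMod.bmap 𝒴 α₁ v₁ = StMod.bmap 𝒴 α₂ v₂) :
    ∃ (z : (indCat o).obj) (m : z ⟶ z₁) (n : z ⟶ z₂) (v : StMod.sch (indCat o) z), m.hom ≫ α₁ = n.hom ≫ α₂ ∧
      Flat (StMod.bmap (indCat o) m) ∧ LocallyOfFinitePresentation (StMod.bmap (indCat o) m) ∧
      StMod.bmap (indCat o) m v = v₁ ∧ StMod.bmap (indCat o) n v = v₂ := by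
  obtain ⟨w, hw₁, hw₂⟩ := Scheme.Pullback.exists_preimage_pullback v₁ v₂ h
  obtain ⟨z, e, m, n, hm, hn, hmn⟩ := exists_roof α₁ α₂ (pullback.fst _ _) (pullback.snd _ _) pullback.condition
  have hm' : StMod.bmap (indCat o) m = e.inv ≫ pullback.fst (StMod.bmap 𝒴 α₁) (StMod.bmap 𝒴 α₂) := by
    rw [← hm, Iso.inv_hom_id_assoc]
  haveI : Flat (pullback.fst (StMod.bmap 𝒴 α₁) (StMod.bmap 𝒴 α₂)) :=
    MorphismProperty.pullback_fst _ _ inferInstance
  haveI : LocallyOfFinitePresentation (pullback.fst (StMod.bmap 𝒴 α₁) (StMod.bmap 𝒴 α₂)) :=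
    MorphismProperty.pullback_fst _ _ inferInstance
  refine ⟨z, m, n, e.hom w, hmn, ?_, ?_, ?_, ?_⟩
  · rw [hm']; infer_instance
  · rw [hm']; infer_instance
  · rw [← hw₁, ← hm]; rfl
  · rw [← hw₂, ← hn]; rfl

/-- Sections restricted along arrows of the image read in the induced category. -/
theorem res_comap (G : StMod.Mod 𝒴) {z' z : (indCat o).obj} (φ : z' ⟶ z) {U : (StMod.sch 𝒴 (o z)).Opens}
    {U' : (StMod.sch 𝒴 (o z')).Opens} (h : U' ≤ StMod.bmap 𝒴 φ.hom ⁻¹ᵁ U) (s : Γ(G.obj (o z), U)) :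
    res (StMod.Mod.comap (indIncl o) G) φ h s = res G φ.hom h s := by
  show res (StMod.Mod.comap (indIncl o) G) φ h s = _
  unfold res
  rw [StMod.Mod.comap_map]
  erw [StMod.castMap_rfl_self]
  rfl

/-- Morphisms between inverse images to the induced category come from morphisms, uniquely. -/
theorem existsUnique_hom' (c : ∀ y, ICover o y) (G H : StMod.Mod 𝒴) (hH : StMod.isQCoh 𝒴 H)
    (w : StMod.Mod.comap (indIncl o) G ⟶ StMod.Mod.comap (indIncl o) H) :
    ∃! v : G ⟶ H, StMod.Mod.comapMap (indIncl o) v = w := by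
  have hw : ∀ {z' z : (indCat o).obj} (φ : z' ⟶ z) {U : (StMod.sch 𝒴 (o z)).Opens}
      {U' : (StMod.sch 𝒴 (o z')).Opens} (h : U' ≤ StMod.bmap 𝒴 φ.hom ⁻¹ᵁ U) (s : Γ(G.obj (o z), U)),
      (w.app z').app U' (res G φ.hom h s) = res H φ.hom h ((w.app z).app U s) := by
    intro z' z φ U U' h s
    have e := ConcreteCategory.congr_hom (congrArg (fun p => Scheme.Modules.Hom.app p U) (w.comm φ rfl)) s
    rw [← res_comap G φ h s]
    refine Eq.trans ?_ (res_comap H φ h _)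
    refine (QCohLib.app_res (w.app z') h _).trans ?_
    exact congrArg _ e
  have hglue : ∀ (y : 𝒴.obj) (U : (StMod.sch 𝒴 y).Opens) (s : Γ(G.obj y, U)),
      ∃ n : Γ(H.obj y, U), ∀ (z : (indCat o).obj) (α : o z ⟶ y) (V : (StMod.sch 𝒴 (o z)).Opens)
        (hV : V ≤ StMod.bmap 𝒴 α ⁻¹ᵁ U), res H α hV n = (w.app z).app V (res G α hV s) := by
    intro y U s
    obtain ⟨n, hn⟩ := exists_glue H hH (c y).toF U
      (fun i => (w.app ((c y).z i)).app _ (res G ((c y).g i) le_rfl s)) fun k l z m n h V hm hn => by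
        refine eq_of_res H hH _ _ fun t ht => ?_
        obtain ⟨i, v, rfl⟩ := (c z).cov t
        refine ⟨_, (c z).g i, inferInstance, v, StMod.bmap 𝒴 ((c z).g i) ⁻¹ᵁ V, le_rfl, ht, rfl, ?_⟩
        have h1 : StMod.bmap 𝒴 ((c z).g i) ⁻¹ᵁ V ≤
            StMod.bmap 𝒴 ((c z).g i ≫ m) ⁻¹ᵁ StMod.bmap 𝒴 ((c y).g k) ⁻¹ᵁ U := by
          rw [StMod.bmap_comp]; exact Scheme.Hom.preimage_mono _ hm
        have h2 : StMod.bmap 𝒴 ((c z).g i) ⁻¹ᵁ V ≤
            StMod.bmap 𝒴 ((c z).g i ≫ n) ⁻¹ᵁ StMod.bmap 𝒴 ((c y).g l) ⁻¹ᵁ U := by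
          rw [StMod.bmap_comp]; exact Scheme.Hom.preimage_mono _ hn
        have h3 : StMod.bmap 𝒴 ((c z).g i) ⁻¹ᵁ V ≤ StMod.bmap 𝒴 (((c z).g i ≫ m) ≫ (c y).g k) ⁻¹ᵁ U := by
          rw [StMod.bmap_comp]; exact h1
        rw [← res_comp H ((c z).g i) m hm le_rfl h1, ← res_comp H ((c z).g i) n hn le_rfl h2]
        erw [← hw (indHom (o := o) (z' := (c z).z i) (z := (c y).z k) ((c z).g i ≫ m)) h1,
          ← hw (indHom (o := o) (z' := (c z).z i) (z := (c y).z l) ((c z).g i ≫ n)) h2]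
        refine congrArg _ ?_
        show res G ((c z).g i ≫ m) h1 (res G ((c y).g k) le_rfl s) = res G ((c z).g i ≫ n) h2 (res G ((c y).g l) le_rfl s)
        have e : ((c z).g i ≫ m) ≫ (c y).g k = ((c z).g i ≫ n) ≫ (c y).g l := by
          rw [Category.assoc, Category.assoc]; exact congrArg _ h
        exact (res_comp G ((c z).g i ≫ m) ((c y).g k) le_rfl h1 h3 s).symm.trans
          ((res_congr G e h3 (e ▸ h3) s).trans (res_comp G ((c z).g i ≫ n) ((c y).g l) le_rfl h2 (e ▸ h3) s))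
    refine ⟨n, fun z α V hV => eq_of_res H hH _ _ fun t ht => ?_⟩
    obtain ⟨i, u₀, hu₀⟩ := (c y).cov (StMod.bmap 𝒴 α t)
    obtain ⟨z', p, q, v, hpq, hflat, -, hv, hv'⟩ := exists_roof_point α ((c y).g i) t u₀ hu₀.symm
    let V' := StMod.bmap (indCat o) p ⁻¹ᵁ V
    refine ⟨o z', p.hom, hflat, v, V', le_rfl, show StMod.bmap (indCat o) p v ∈ V by rw [hv]; exact ht, hv, ?_⟩
    have hq : V' ≤ StMod.bmap 𝒴 q.hom ⁻¹ᵁ StMod.bmap 𝒴 ((c y).g i) ⁻¹ᵁ U := by
      intro x hx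
      show StMod.bmap 𝒴 ((c y).g i) (StMod.bmap 𝒴 q.hom x) ∈ U
      rw [← Scheme.Hom.comp_apply, ← StMod.bmap_comp, ← hpq, StMod.bmap_comp]
      exact hV hx
    have h4 : V' ≤ StMod.bmap 𝒴 (p.hom ≫ α) ⁻¹ᵁ U := by
      rw [StMod.bmap_comp]; exact Scheme.Hom.preimage_mono _ hV
    refine (res_comp H p.hom α hV le_rfl h4 n).symm.trans ((res_congr H hpq h4 (hpq ▸ h4) n).trans
      ((res_comp H q.hom ((c y).g i) le_rfl hq (hpq ▸ h4) n).trans ?_))
    refine (congrArg _ (hn i)).trans ?_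
    erw [← hw q hq, ← hw p (le_refl V')]
    refine congrArg _ ?_
    show res G q.hom hq (res G ((c y).g i) le_rfl s) = res G p.hom le_rfl (res G α hV s)
    exact ((res_comp G p.hom α hV le_rfl h4 s).symm.trans ((res_congr G hpq h4 (hpq ▸ h4) s).trans
      (res_comp G q.hom ((c y).g i) le_rfl hq (hpq ▸ h4) s))).symm
  choose vf hvf using hglue
  have huniq : ∀ (y : 𝒴.obj) (U : (StMod.sch 𝒴 y).Opens) (s : Γ(G.obj y, U)) (n : Γ(H.obj y, U)),
      (∀ i, res H ((c y).g i) le_rfl n = (w.app ((c y).z i)).app _ (res G ((c y).g i) le_rfl s)) →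
        n = vf y U s := fun y U s n h =>
    eq_of_res_cover H hH (c y).toF _ _ fun i => (h i).trans (hvf y U s _ _ _ _).symm
  let app : ∀ y, G.obj y ⟶ H.obj y := fun y =>
    ⟨PresheafOfModules.homMk
      { app := fun U => AddCommGrpCat.ofHom
          (AddMonoidHom.mk' (vf y U.unop) fun a b => (huniq y _ (a + b) _ fun i => by
            rw [map_add, map_add, hvf, hvf]; exact (map_add _ _ _).symm).symm)
        naturality := fun U V j => by
          refine AddCommGrpCat.hom_ext (AddMonoidHom.ext fun a => ?_)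
          show vf y V.unop ((G.obj y).presheaf.map j a) = (H.obj y).presheaf.map j (vf y U.unop a)
          refine (huniq y _ _ _ fun i => ?_).symm
          rw [show j = (homOfLE j.unop.le).op from Quiver.Hom.unop_inj (Subsingleton.elim _ _), res_restr, res_restr]
          exact hvf y _ a _ _ _ _ }
      fun U (r : Γ(StMod.sch 𝒴 y, U.unop)) (a : Γ(G.obj y, U.unop)) => by
        show vf y U.unop (r • a) = r • vf y U.unop a
        refine (huniq y _ _ _ fun i => ?_).symm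
        erw [res_smul, res_smul, Scheme.Modules.Hom.app_smul]
        exact congrArg _ (hvf y _ a _ _ _ _)⟩
  refine ⟨⟨app, fun {y' y} φ g hg => ?_⟩, ?_, fun v hv => ?_⟩
  · subst hg
    ext U a
    show vf y' (StMod.bmap 𝒴 φ ⁻¹ᵁ U) ((G.map φ rfl).app U a) = (H.map φ rfl).app U (vf y U a)
    refine (huniq y' _ _ _ fun i => ?_).symm
    have h1 : StMod.bmap 𝒴 ((c y').g i) ⁻¹ᵁ StMod.bmap 𝒴 φ ⁻¹ᵁ U ≤ StMod.bmap 𝒴 ((c y').g i ≫ φ) ⁻¹ᵁ U := by
      rw [StMod.bmap_comp]; exact le_rfl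
    have e1 : ∀ (K : StMod.Mod 𝒴) (b : Γ(K.obj y, U)), (K.map φ rfl).app U b = res K φ le_rfl b :=
      fun K b => (restr_self _ le_rfl _).symm
    rw [e1, e1, ← res_comp H _ φ le_rfl le_rfl h1, ← res_comp G _ φ le_rfl le_rfl h1]
    exact hvf y U a _ _ _ h1
  · refine StMod.Mod.hom_ext fun z => ?_
    ext U a
    show vf (o z) U a = (w.app z).app U a
    refine (huniq (o z) U a _ fun i => ?_).symm
    exact (hw (indHom (o := o) (z' := (c (o z)).z i) (z := z) ((c (o z)).g i)) le_rfl a).symm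
  · refine StMod.Mod.hom_ext fun y => ?_
    ext U a
    show (v.app y).app U a = vf y U a
    refine huniq y U a _ fun i => ?_
    have e := ConcreteCategory.congr_hom (congrArg (fun p => Scheme.Modules.Hom.app p U) (v.comm ((c y).g i) rfl)) a
    have e2 : v.app (o ((c y).z i)) = w.app ((c y).z i) := congrArg (fun p => StMod.Mod.Hom.app p ((c y).z i)) hv
    rw [← e2]
    refine Eq.trans ?_ (QCohLib.app_res (v.app (o ((c y).z i))) le_rfl _).symm
    exact congrArg _ e.symm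

theorem existsUnique_hom (hcov : Gerb.LocSurjObj (QuotSh.J Scheme.fppfPrecoverage S) (indIncl o))
    (G H : StMod.Mod 𝒴) (hH : StMod.isQCoh 𝒴 H)
    (w : StMod.Mod.comap (indIncl o) G ⟶ StMod.Mod.comap (indIncl o) H) :
    ∃! v : G ⟶ H, StMod.Mod.comapMap (indIncl o) v = w :=
  existsUnique_hom' (fun y => (nonempty_icover hcov y).some) G H hH w

end Groth.Agent.GerbeExtLib
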