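import Groth.Agent.GerbeExtLib.Ind

/-!
# A category mapped to a category over schemes, and its image
-/

set_option autoImplicit false
set_option backward.isDefEq.respectTransparency false
set_option linter.style.haveILetI false
set_option linter.unusedSectionVars false

universe w w' v v' u

open CategoryTheory CategoryTheory.Limits AlgebraicGeometry Opposite

noncomputable section

namespace Groth.Agent.GerbeExtLib

variable {S : Scheme.{u}} {𝒴 : BasedCategory.{v', w'} (Over S)} {D : Type w} [Category.{v} D] (P : D ⥤ 𝒴.obj)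

/-- A category as a category over schemes through a functor. -/
abbrev pCat : BasedCategory.{v, w} (Over S) where
  obj := D
  p := P ⋙ 𝒴.p

/-- The functor, over the base. -/
def pFun : pCat P ⥤ᵇ 𝒴 where
  toFunctor := P
  w := rfl

/-- The functor to the image. -/
def jFun : pCat P ⥤ᵇ indCat (P.obj) where
  toFunctor :=
    { obj := fun d => d
      map := fun φ => InducedCategory.homMk (P.map φ)
      map_id := fun d => InducedCategory.hom_ext (P.map_id d)
      map_comp := fun φ ψ => InducedCategory.hom_ext (P.map_comp φ ψ) }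
  w := rfl

theorem p_comp_jFun : BasedFunctor.comp (jFun P) (indIncl P.obj) = pFun P := rfl

variable [FibCat.IsFibGrpd 𝒴.p] [FibCat.IsFibGrpd (pCat P).p]

instance isFibGrpd_indCat_map : FibCat.IsFibGrpd (indCat (P.obj)).p where
  exists_lift {x V} f := by
    obtain ⟨d, φ, hφ⟩ := FibCat.IsFibGrpd.exists_lift (p := (pCat P).p) (x := x) f
    have hd : (pCat P).p.obj d = V := IsHomLift.domain_eq (pCat P).p f φ
    refine ⟨d, InducedCategory.homMk (P.map φ), ?_⟩
    refine IsHomLift.of_fac' (indCat P.obj).p f _ hd rfl ?_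
    simpa using IsHomLift.fac' (pCat P).p f φ
  isStronglyCartesian {y x} φ :=
    { universal_property' := fun {a'} g φ' h => by
        have hw : g ≫ 𝒴.p.map φ.hom = 𝒴.p.map φ'.hom :=
          haveI := h
          (IsHomLift.eq_of_isHomLift (indCat P.obj).p (g ≫ (indCat P.obj).p.map φ) φ')
        obtain ⟨χ, hχ, hχ'⟩ := exists_fac_over (𝒵 := 𝒴) φ.hom φ'.hom g hw
        refine ⟨InducedCategory.homMk χ, ⟨?_, InducedCategory.hom_ext hχ'⟩, ?_⟩
        · subst hχ
          exact IsHomLift.map (indCat P.obj).p (InducedCategory.homMk χ)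
        · rintro ψ ⟨hψ, hψ'⟩
          refine InducedCategory.hom_ext (hom_ext_over φ.hom ?_ ?_)
          · haveI := hψ
            exact (IsHomLift.eq_of_isHomLift (indCat P.obj).p g ψ).symm.trans hχ.symm
          · exact (congrArg InducedCategory.Hom.hom hψ').trans hχ'.symm }

theorem locSurjObj_indIncl (h : Gerb.LocSurjObj (QuotSh.J Scheme.fppfPrecoverage S) (pFun P)) :
    Gerb.LocSurjObj (QuotSh.J Scheme.fppfPrecoverage S) (indIncl (P.obj)) := fun y => by
  obtain ⟨R, hR, hmem⟩ := h y
  refine ⟨R, hR, fun V f hf => ?_⟩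
  obtain ⟨d, g, hg⟩ := hmem f hf
  exact ⟨d, g, hg⟩

end Groth.Agent.GerbeExtLib
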