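import Groth.Agent.GerbeExtLib.Ext
import Groth.Agent.GerbeExtLib.Push
import Groth.Prelude.Def_TwSh

/-!
# Twisted quasi-coherent modules on a gerbe with a section
-/

set_option autoImplicit false
set_option backward.isDefEq.respectTransparency false
set_option linter.style.haveILetI false
set_option linter.unusedSectionVars false
set_option maxHeartbeats 800000

universe w w' v v' u

open CategoryTheory CategoryTheory.Limits AlgebraicGeometry TopologicalSpace Opposite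
open Groth.Agent.PullbackMod Groth.Agent.CohBase

noncomputable section

namespace Groth.Agent.GerbeExtLib

variable {S : Scheme.{u}} {𝒳 : BasedCategory.{v', w'} (Over S)} {D : Type w} [Category.{v} D] {P : D ⥤ 𝒳.obj}
  [FibCat.IsFibGrpd 𝒳.p] [FibCat.IsFibGrpd (pCat P).p]

/-- Arrows of the image between objects of the source. -/
abbrev IHom (P : D ⥤ 𝒳.obj) (z' z : D) : Type v' := @Quiver.Hom (indCat P.obj).obj _ z' z

/-- The underlying isomorphism of a trivialisation of a composite. -/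
def secIso {π : 𝒳 ⥤ᵇ pCat P} (e : BasedFunctor.comp (pFun P) π ≅ BasedFunctor.id (pCat P)) (z : D) :
    π.obj (P.obj z) ≅ z := ((BasedNatTrans.forgetful _ _).mapIso e).app z

theorem secIso_natural {π : 𝒳 ⥤ᵇ pCat P} (e : BasedFunctor.comp (pFun P) π ≅ BasedFunctor.id (pCat P))
    {z' z : D} (φ : z' ⟶ z) : π.map (P.map φ) ≫ (secIso e z).hom = (secIso e z').hom ≫ φ :=
  ((BasedNatTrans.forgetful _ _).mapIso e).hom.naturality φ

theorem p_secIso {π : 𝒳 ⥤ᵇ pCat P} (e : BasedFunctor.comp (pFun P) π ≅ BasedFunctor.id (pCat P)) (z : D) :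
    (pCat P).p.map (secIso e z).hom = eqToHom (π.w_obj (P.obj z)) := by
  have h : (pCat P).p.IsHomLift (𝟙 ((pCat P).p.obj z)) (secIso e z).hom := e.hom.isHomLift' z
  simpa using @IsHomLift.fac' _ _ _ _ (pCat P).p _ _ _ _ _ _ h

variable {A : (Over S)ᵒᵖ ⥤ GrpCat.{u}} (χ : A ⟶ TwSh.GmPsh S) (ι : TwSh.BandHom 𝒳 A) (π : 𝒳 ⥤ᵇ pCat P)

/-- The hypotheses: a banded gerbe with a section over a setoid. -/
structure SecData : Prop where
  thin : ∀ {z' z : D} (φ φ' : z' ⟶ z), (pCat P).p.map φ = (pCat P).p.map φ' → φ = φ'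
  inj : ∀ x : 𝒳.obj, Function.Injective (ι.hom x)
  range : ∀ x : 𝒳.obj, (ι.hom x).range = (Gerb.autMap π x).ker
  hom : Gerb.LocSurjHom (QuotSh.J Scheme.fppfPrecoverage S) π
  iso : Nonempty (BasedFunctor.comp (pFun P) π ≅ BasedFunctor.id (pCat P))

variable {χ ι π}

/-- An arrow between values of the section is a band element followed by a value. -/
theorem exists_decomp (h : SecData ι π) {z' z : D} (b : P.obj z' ⟶ P.obj z) :
    ∃ (φ : z' ⟶ z) (a : A.obj (op (𝒳.p.obj (P.obj z')))), b = (ι.hom (P.obj z') a).hom.1 ≫ P.map φ := by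
  obtain ⟨e⟩ := h.iso
  let φ : z' ⟶ z := (secIso e z').inv ≫ π.map b ≫ (secIso e z).hom
  have hπb : π.map (P.map φ) = π.map b := by
    rw [← cancel_mono (secIso e z).hom, secIso_natural]
    simp [φ]
  have hp : 𝒳.p.map (P.map φ) = 𝒳.p.map b := by
    have h1 : ∀ {x' x : 𝒳.obj} (f : x' ⟶ x), (pCat P).p.map (π.map f) =
        eqToHom (π.w_obj x') ≫ 𝒳.p.map f ≫ eqToHom (π.w_obj x).symm := fun f =>
      @IsHomLift.fac' _ _ _ _ (pCat P).p _ _ _ _ (𝒳.p.map f) (π.map f)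
        (BasedFunctor.preserves_isHomLift π (𝒳.p.map f) f)
    have h2 := congrArg ((pCat P).p.map) hπb
    rw [h1, h1] at h2
    exact (cancel_mono _).1 ((cancel_epi _).1 h2)
  obtain ⟨α, hα, hα'⟩ := exists_fac_over (P.map φ) b (𝟙 _) (by rw [Category.id_comp, hp])
  obtain ⟨β, hβ, hβ'⟩ := exists_fac_over b (P.map φ) (𝟙 _) (by rw [Category.id_comp, hp])
  have e1 : α ≫ β = 𝟙 _ := hom_ext_over b (by rw [Functor.map_comp, hα, hβ, Category.id_comp,
    CategoryTheory.Functor.map_id]) (by rw [Category.assoc, hβ', hα', Category.id_comp])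
  have e2 : β ≫ α = 𝟙 _ := hom_ext_over (P.map φ) (by rw [Functor.map_comp, hα, hβ, Category.id_comp,
    CategoryTheory.Functor.map_id]) (by rw [Category.assoc, hα', hβ', Category.id_comp])
  have hlα : 𝒳.p.IsHomLift (𝟙 (𝒳.p.obj (P.obj z'))) α := by rw [← hα]; infer_instance
  have hlβ : 𝒳.p.IsHomLift (𝟙 (𝒳.p.obj (P.obj z'))) β := by rw [← hβ]; infer_instance
  let a' : Gerb.AutO (P.obj z') :=
    { hom := ⟨α, hlα⟩
      inv := ⟨β, hlβ⟩
      hom_inv_id := Functor.Fiber.hom_ext e1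
      inv_hom_id := Functor.Fiber.hom_ext e2 }
  have hker : a' ∈ (Gerb.autMap π (P.obj z')).ker := by
    refine MonoidHom.mem_ker.2 (Aut.ext (Functor.Fiber.hom_ext ?_))
    show π.map α = 𝟙 (π.obj (P.obj z'))
    refine hom_ext_over (π.map (P.map φ)) ?_ ?_
    · rw [CategoryTheory.Functor.map_id, @IsHomLift.fac' _ _ _ _ (pCat P).p _ _ _ _ (𝟙 (𝒳.p.obj (P.obj z'))) (π.map α)
        (@BasedFunctor.preserves_isHomLift _ _ _ _ π _ _ _ _ (𝟙 (𝒳.p.obj (P.obj z'))) α hlα)]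
      simp
    · rw [Category.id_comp, ← Functor.map_comp, hα', hπb]
  rw [← h.range] at hker
  obtain ⟨a, ha⟩ := hker
  exact ⟨φ, a, hα'.symm.trans (congrArg (fun g : Gerb.AutO (P.obj z') => g.hom.1 ≫ P.map φ) ha).symm⟩

theorem decomp_unique (h : SecData ι π) {z' z : D} {φ φ' : z' ⟶ z} {a a' : A.obj (op (𝒳.p.obj (P.obj z')))}
    (e : (ι.hom (P.obj z') a).hom.1 ≫ P.map φ = (ι.hom (P.obj z') a').hom.1 ≫ P.map φ') : φ = φ' ∧ a = a' := by
  have hφ : φ = φ' := h.thin φ φ' (by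
    have e1 := congrArg 𝒳.p.map e
    rw [Functor.map_comp, Functor.map_comp] at e1
    erw [TwSh.map_autO_hom (P.obj z') (ι.hom _ a), TwSh.map_autO_hom (P.obj z') (ι.hom _ a'),
      Category.id_comp, Category.id_comp] at e1
    exact e1)
  subst hφ
  refine ⟨rfl, h.inj _ (Aut.ext (Functor.Fiber.hom_ext ?_))⟩
  exact hom_ext_over (P.map φ)
    ((TwSh.map_autO_hom _ (ι.hom _ a)).trans (TwSh.map_autO_hom _ (ι.hom _ a')).symm) e

variable (χ) in
/-- The unit by which a band element acts. -/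
def unitVal (x : 𝒳.obj) (a : A.obj (op (𝒳.p.obj x))) : Γ(StMod.sch 𝒳 x, ⊤) :=
  ((TwSh.charUnit χ x a ^ (1 : ℤ))⁻¹).val

theorem unitVal_natural {x' x : 𝒳.obj} (f : x' ⟶ x) (a : A.obj (op (𝒳.p.obj x))) :
    unitVal χ x' (A.map (𝒳.p.map f).op a) = (StMod.bmap 𝒳 f).appTop (unitVal χ x a) := by
  have hu : (TwSh.charUnit χ x' (A.map (𝒳.p.map f).op a) ^ (1 : ℤ))⁻¹ =
      Units.map (StMod.bmap 𝒳 f).appTop.hom.toMonoidHom ((TwSh.charUnit χ x a ^ (1 : ℤ))⁻¹) := by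
    rw [map_inv, map_zpow]
    congr 2
    exact ConcreteCategory.congr_hom (χ.naturality (𝒳.p.map f).op) a
  exact congrArg Units.val hu

theorem unitVal_one (x : 𝒳.obj) : unitVal χ x 1 = 1 := by
  simp [unitVal, TwSh.charUnit]

theorem unitVal_mul (x : 𝒳.obj) (a b : A.obj (op (𝒳.p.obj x))) :
    unitVal χ x (a * b) = unitVal χ x a * unitVal χ x b := by
  simp [unitVal, TwSh.charUnit, mul_comm]

theorem isUnit_unitVal (x : 𝒳.obj) (a : A.obj (op (𝒳.p.obj x))) : IsUnit (unitVal χ x a) := Units.isUnit _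

theorem smul_appLE {X Y : Scheme.{u}} (g : Y ⟶ X) {U : X.Opens} {V : Y.Opens} (h : V ≤ g ⁻¹ᵁ U) (r : Γ(X, ⊤)) :
    g.appLE U V h (TwSh.resTop X U r) = TwSh.resTop Y V (g.appTop r) := by
  show (X.presheaf.map (homOfLE le_top).op ≫ g.appLE U V h) r = (g.app ⊤ ≫ Y.presheaf.map (homOfLE le_top).op) r
  rw [Scheme.Hom.map_appLE]
  rfl

/-- A module on the section, twisted along the band, as a map along an arrow of the image. -/
def twMapHom (F : StMod.Mod (pCat P)) (χ : A ⟶ TwSh.GmPsh S) {z' z : D} (b : P.obj z' ⟶ P.obj z) (φ : z' ⟶ z)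
    (a : A.obj (op (𝒳.p.obj (P.obj z')))) (hb : StMod.bmap 𝒳 (P.map φ) = StMod.bmap 𝒳 b) :
    (F.obj z : (StMod.sch 𝒳 (P.obj z)).Modules) ⟶ (Scheme.Modules.pushforward (StMod.bmap 𝒳 b)).obj (F.obj z') :=
  F.map φ (g := StMod.bmap 𝒳 b) hb ≫
    (Scheme.Modules.pushforward (StMod.bmap 𝒳 b)).map (TwSh.scalarEnd (F.obj z') (unitVal χ (P.obj z') a))

theorem bmap_decomp {z' z : D} {b : P.obj z' ⟶ P.obj z} {φ : z' ⟶ z} {a : A.obj (op (𝒳.p.obj (P.obj z')))}
    (e : b = (ι.hom (P.obj z') a).hom.1 ≫ P.map φ) : StMod.bmap 𝒳 (P.map φ) = StMod.bmap 𝒳 b := by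
  rw [e, StMod.bmap_comp, TwSh.bmap_autO, Category.id_comp]

theorem twMapHom_app (F : StMod.Mod (pCat P)) (χ : A ⟶ TwSh.GmPsh S) {z' z : D} (b : P.obj z' ⟶ P.obj z)
    (φ : z' ⟶ z) (a : A.obj (op (𝒳.p.obj (P.obj z')))) (hb : StMod.bmap 𝒳 (P.map φ) = StMod.bmap 𝒳 b)
    {U : (StMod.sch (pCat P) z).Opens} {V : (StMod.sch (pCat P) z').Opens} (hV : V ≤ StMod.bmap 𝒳 b ⁻¹ᵁ U)
    (hV' : V ≤ StMod.bmap (pCat P) φ ⁻¹ᵁ U) (s : Γ(F.obj z, U)) :
    (F.obj z').presheaf.map (homOfLE hV).op ((twMapHom F χ b φ a hb).app U s) =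
      TwSh.resTop (StMod.sch (pCat P) z') V (unitVal χ (P.obj z') a) • res F φ hV' s := by
  rw [res_eq_map F φ (g := StMod.bmap 𝒳 b) hb hV' hV]
  exact (QCohLib.app_res (TwSh.scalarEnd (F.obj z') (unitVal χ (P.obj z') a)) hV ((F.map φ hb).app U s)).symm

theorem twMapHom_congr (F : StMod.Mod (pCat P)) (χ : A ⟶ TwSh.GmPsh S) {z' z : D} (b : P.obj z' ⟶ P.obj z)
    {φ φ' : z' ⟶ z} {a a' : A.obj (op (𝒳.p.obj (P.obj z')))} (e1 : φ = φ') (e2 : a = a')
    (hb : StMod.bmap 𝒳 (P.map φ) = StMod.bmap 𝒳 b) (hb' : StMod.bmap 𝒳 (P.map φ') = StMod.bmap 𝒳 b) :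
    twMapHom F χ b φ a hb = twMapHom F χ b φ' a' hb' := by
  subst e1 e2
  rfl

variable (χ) in
/-- The comparison map of the twist. -/
def twHom (h : SecData ι π) (F : StMod.Mod (pCat P)) {z' z : D} (b : IHom P z' z) :
    (F.obj z : (StMod.sch 𝒳 (P.obj z)).Modules) ⟶
      (Scheme.Modules.pushforward (StMod.bmap 𝒳 b.hom)).obj (F.obj z') :=
  twMapHom F χ b.hom (exists_decomp h b.hom).choose (exists_decomp h b.hom).choose_spec.choose
    (bmap_decomp (exists_decomp h b.hom).choose_spec.choose_spec)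

theorem twHom_eq (h : SecData ι π) (F : StMod.Mod (pCat P)) {z' z : D} (b : IHom P z' z) (φ : z' ⟶ z)
    (a : A.obj (op (𝒳.p.obj (P.obj z')))) (e : b.hom = (ι.hom (P.obj z') a).hom.1 ≫ P.map φ) :
    twHom χ h F b = twMapHom F χ b.hom φ a (bmap_decomp e) :=
  have hu := decomp_unique h ((exists_decomp h b.hom).choose_spec.choose_spec.symm.trans e)
  twMapHom_congr F χ b.hom hu.1 hu.2 _ _

theorem twHom_app (h : SecData ι π) (F : StMod.Mod (pCat P)) {z' z : D} (b : IHom P z' z) (φ : z' ⟶ z)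
    (a : A.obj (op (𝒳.p.obj (P.obj z')))) (e : b.hom = (ι.hom (P.obj z') a).hom.1 ≫ P.map φ)
    {U : (StMod.sch (pCat P) z).Opens} {V : (StMod.sch (pCat P) z').Opens} (hV : V ≤ StMod.bmap 𝒳 b.hom ⁻¹ᵁ U)
    (hV' : V ≤ StMod.bmap (pCat P) φ ⁻¹ᵁ U) (s : Γ(F.obj z, U)) :
    (F.obj z').presheaf.map (homOfLE hV).op ((twHom χ h F b).app U s) =
      TwSh.resTop (StMod.sch (pCat P) z') V (unitVal χ (P.obj z') a) • res F φ hV' s := by
  rw [twHom_eq h F b φ a e]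
  exact twMapHom_app F χ b.hom φ a (bmap_decomp e) hV hV' s

variable (χ) in
/-- The twist of a module on the section to the image. -/
def twMod (h : SecData ι π) (F : StMod.Mod (pCat P)) : StMod.Mod (indCat P.obj) where
  obj z := F.obj z
  map b _ hg := twHom χ h F b ≫ (Scheme.Modules.pushforwardCongr hg).hom.app _
  map_id z := by
    ext U s
    have hU : U ≤ StMod.bmap 𝒳 (𝟙 (P.obj z)) ⁻¹ᵁ U := by rw [StMod.bmap_id]; exact le_rfl
    have hU' : U ≤ StMod.bmap (pCat P) (𝟙 (show D from z)) ⁻¹ᵁ U := by rw [StMod.bmap_id]; exact le_rfl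
    show ((Scheme.Modules.pushforwardCongr (StMod.bmap_id z)).hom.app (F.obj z)).app U
      ((twHom χ h F (𝟙 z)).app U s) = s
    rw [Scheme.Modules.pushforwardCongr_hom_app_app]
    show (F.obj z).presheaf.map (homOfLE hU).op _ = _
    refine (twHom_app (χ := χ) h F (𝟙 z) (𝟙 _) 1
      (by rw [map_one, CategoryTheory.Functor.map_id]; exact (Category.id_comp _).symm) hU hU' s).trans ?_
    rw [unitVal_one, map_one, one_smul, res_id F hU' le_rfl]
    exact restr_self _ _ _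
  map_comp {z'' z' z} b' b g' g hh hg := by
    subst hh hg
    simp only [StMod.pushforwardCongr_hom_app_self, Category.comp_id]
    ext U s
    have hU : StMod.bmap 𝒳 b'.hom ⁻¹ᵁ (StMod.bmap 𝒳 b.hom ⁻¹ᵁ U) ≤ StMod.bmap 𝒳 (b'.hom ≫ b.hom) ⁻¹ᵁ U := by
      rw [StMod.bmap_comp]; exact le_rfl
    obtain ⟨φ, a, e⟩ := exists_decomp h b.hom
    obtain ⟨φ', a', e'⟩ := exists_decomp h b'.hom
    let a'' := A.map (𝒳.p.map (P.map φ')).op a
    have e'' : b'.hom ≫ b.hom = (ι.hom (P.obj z'') (a'' * a')).hom.1 ≫ P.map (φ' ≫ φ) := by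
      rw [e, e', P.map_comp, map_mul]
      show _ = ((ι.hom (P.obj z'') a').hom.1 ≫ (ι.hom (P.obj z'') a'').hom.1) ≫ _
      rw [Category.assoc, Category.assoc]
      refine congrArg _ ?_
      rw [← Category.assoc, ← Category.assoc]
      exact congrArg (· ≫ P.map φ) (ι.natural (P.map φ') a).symm
    have hb : StMod.bmap (pCat P) φ = StMod.bmap 𝒳 b.hom := bmap_decomp e
    have hb' : StMod.bmap (pCat P) φ' = StMod.bmap 𝒳 b'.hom := bmap_decomp e'
    have h1 : StMod.bmap 𝒳 b.hom ⁻¹ᵁ U ≤ StMod.bmap (pCat P) φ ⁻¹ᵁ U := by rw [hb]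
    have h2 : StMod.bmap 𝒳 b'.hom ⁻¹ᵁ (StMod.bmap 𝒳 b.hom ⁻¹ᵁ U) ≤
        StMod.bmap (pCat P) φ' ⁻¹ᵁ (StMod.bmap 𝒳 b.hom ⁻¹ᵁ U) := by rw [hb']
    have h3 : StMod.bmap 𝒳 b'.hom ⁻¹ᵁ (StMod.bmap 𝒳 b.hom ⁻¹ᵁ U) ≤ StMod.bmap (pCat P) (φ' ≫ φ) ⁻¹ᵁ U := by
      rw [StMod.bmap_comp (𝒳 := pCat P), hb, hb']; exact le_rfl
    have key : (F.obj z'').presheaf.map (homOfLE hU).op ((twHom χ h F (b' ≫ b)).app U s) =
        (twHom χ h F b').app (StMod.bmap 𝒳 b.hom ⁻¹ᵁ U) ((twHom χ h F b).app U s) := by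
      refine (twHom_app (χ := χ) h F (b' ≫ b) _ _ e'' hU h3 s).trans ?_
      refine Eq.trans ?_ ((restr_self (F.obj z'') le_rfl _))
      refine Eq.trans ?_ (twHom_app (χ := χ) h F b' φ' a' e' le_rfl h2 _).symm
      rw [show (twHom χ h F b).app U s = _ from
          (restr_self (F.obj z') le_rfl _).symm.trans (twHom_app (χ := χ) h F b φ a e le_rfl h1 s)]
      rw [res_smul, ← res_comp F φ' φ h1 h2 h3, smul_smul, unitVal_mul, map_mul, mul_comm]
      refine congrArg (fun r => (_ * r) • _) ?_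
      rw [smul_appLE]
      exact congrArg _ (unitVal_natural (P.map φ') a)
    refine Eq.trans ?_ key
    rw [Scheme.Modules.Hom.comp_app, Scheme.Modules.pushforwardCongr_hom_app_app]
    rfl

theorem twMod_map (h : SecData ι π) (F : StMod.Mod (pCat P)) {z' z : (indCat P.obj).obj} (b : z' ⟶ z) :
    (twMod χ h F).map b rfl = twHom χ h F b := by
  show twHom χ h F b ≫ (Scheme.Modules.pushforwardCongr rfl).hom.app _ = _
  rw [StMod.pushforwardCongr_hom_app_self, Category.comp_id]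

theorem res_twMod (h : SecData ι π) (F : StMod.Mod (pCat P)) {z' z : D} (b : IHom P z' z) (φ : z' ⟶ z)
    (a : A.obj (op (𝒳.p.obj (P.obj z')))) (e : b.hom = (ι.hom (P.obj z') a).hom.1 ≫ P.map φ)
    {U : (StMod.sch (pCat P) z).Opens} {V : (StMod.sch (pCat P) z').Opens} (hV : V ≤ StMod.bmap 𝒳 b.hom ⁻¹ᵁ U)
    (hV' : V ≤ StMod.bmap (pCat P) φ ⁻¹ᵁ U) (s : Γ(F.obj z, U)) :
    res (twMod χ h F) b hV s =
      TwSh.resTop (StMod.sch (pCat P) z') V (unitVal χ (P.obj z') a) • res F φ hV' s := by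
  rw [← twHom_app h F b φ a e hV hV' s]
  show ((twMod χ h F).obj z').presheaf.map (homOfLE hV).op (((twMod χ h F).map b rfl).app U s) = _
  rw [twMod_map]
  rfl

theorem isIso_scalarEnd {X : Scheme.{u}} (M : X.Modules) {r : Γ(X, ⊤)} (hr : IsUnit r) :
    IsIso (TwSh.scalarEnd M r) := by
  obtain ⟨r, rfl⟩ := hr
  refine ⟨TwSh.scalarEnd M ↑r⁻¹, ?_, ?_⟩ <;> ext U s
  all_goals
    show TwSh.resTop X U _ • TwSh.resTop X U _ • s = s
    rw [smul_smul, ← map_mul]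
  · rw [Units.inv_mul, map_one, one_smul]
  · rw [Units.mul_inv, map_one, one_smul]

theorem isIso_adj_comp {X Y : Scheme.{u}} (g : Y ⟶ X) {M : X.Modules} {N N' : Y.Modules}
    (f : M ⟶ (Scheme.Modules.pushforward g).obj N) (t : N ⟶ N') [IsIso t]
    (hf : IsIso (((Scheme.Modules.pullbackPushforwardAdjunction g).homEquiv M N).symm f)) :
    IsIso (((Scheme.Modules.pullbackPushforwardAdjunction g).homEquiv M N').symm
      (f ≫ (Scheme.Modules.pushforward g).map t)) := by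
  rw [Adjunction.homEquiv_naturality_right_symm]
  infer_instance

theorem isQCoh_twMod (h : SecData ι π) (F : StMod.Mod (pCat P)) (hF : StMod.isQCoh (pCat P) F) :
    StMod.isQCoh (indCat P.obj) (twMod χ h F) := by
  refine ⟨fun z' z b g hg => ?_, fun z => hF.2 z⟩
  subst hg
  rw [twMod_map]
  unfold twHom twMapHom
  have hb := bmap_decomp (exists_decomp h b.hom).choose_spec.choose_spec
  have hiso := hF.1 (exists_decomp h b.hom).choose (g := StMod.bmap 𝒳 b.hom) hb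
  haveI := isIso_scalarEnd (F.obj z') (isUnit_unitVal (χ := χ) (P.obj z') (exists_decomp h b.hom).choose_spec.choose)
  exact isIso_adj_comp (StMod.bmap 𝒳 b.hom) _ _ hiso

theorem res_twMod_jFun (h : SecData ι π) (F : StMod.Mod (pCat P)) {z' z : D} (φ : z' ⟶ z)
    {U : (StMod.sch (pCat P) z).Opens} {V : (StMod.sch (pCat P) z').Opens} (hV : V ≤ StMod.bmap 𝒳 (P.map φ) ⁻¹ᵁ U)
    (hV' : V ≤ StMod.bmap (pCat P) φ ⁻¹ᵁ U) (s : Γ(F.obj z, U)) :
    res (twMod χ h F) ((jFun P).map φ) hV s = res F φ hV' s := by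
  refine (res_twMod (χ := χ) h F ((jFun P).map φ) φ 1 ?_ hV hV' s).trans ?_
  · rw [map_one]
    exact (Category.id_comp _).symm
  · rw [unitVal_one, map_one, one_smul]
    rfl

theorem res_autO {𝒵 : BasedCategory.{v', w'} (Over S)} (G : StMod.Mod 𝒵) (x : 𝒵.obj) (α : Gerb.AutO x)
    {V : (StMod.sch 𝒵 x).Opens} (hV : V ≤ StMod.bmap 𝒵 α.hom.1 ⁻¹ᵁ V) (t : Γ(G.obj x, V)) :
    res G α.hom.1 hV t = (TwSh.inert G x α).app V t := by
  rw [res_eq_map G α.hom.1 (g := 𝟙 _) (TwSh.bmap_autO x α) hV le_rfl]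
  exact (restr_self _ _ _).trans (TwSh.inert_app_apply G x α V t).symm

/-- The twist restricts back. -/
def twIso (h : SecData ι π) (F : StMod.Mod (pCat P)) : F ≅ StMod.Mod.comap (jFun P) (twMod χ h F) :=
  StMod.Mod.isoMk (fun z => Iso.refl _) fun z' z φ g hg => by
    subst hg
    ext U s
    show (F.map φ rfl).app U s = ((StMod.Mod.comap (jFun P) (twMod χ h F)).map φ rfl).app U s
    refine (restr_self (F.obj z') le_rfl _).symm.trans ?_
    refine Eq.trans ?_ (restr_self ((StMod.Mod.comap (jFun P) (twMod χ h F)).obj z') le_rfl _)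
    show res F φ le_rfl s = res (StMod.Mod.comap (jFun P) (twMod χ h F)) φ le_rfl s
    exact (res_twMod_jFun (χ := χ) h F φ le_rfl le_rfl s).symm.trans
      (res_comap_jFun (twMod χ h F) φ le_rfl s).symm

/-- Twistedness on the image. -/
def IndTw (χ : A ⟶ TwSh.GmPsh S) (ι : TwSh.BandHom 𝒳 A) (G : StMod.Mod (indCat P.obj)) : Prop :=
  ∀ (z : (indCat P.obj).obj) (a : A.obj (op (𝒳.p.obj (P.obj z)))) (V : (StMod.sch 𝒳 (P.obj z)).Opens)
    (hV : V ≤ StMod.bmap 𝒳 (ι.hom (P.obj z) a).hom.1 ⁻¹ᵁ V) (t : Γ(G.obj z, V)),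
    res G (indHom (o := P.obj) (z' := z) (z := z) (ι.hom (P.obj z) a).hom.1) hV t =
      (show Γ(StMod.sch (indCat P.obj) z, V) from TwSh.resTop (StMod.sch 𝒳 (P.obj z)) V (unitVal χ (P.obj z) a)) • t

theorem indTw_twMod (h : SecData ι π) (F : StMod.Mod (pCat P)) : IndTw χ ι (twMod χ h F) := fun z a V hV t => by
  have hV' : V ≤ StMod.bmap (pCat P) (𝟙 (show D from z)) ⁻¹ᵁ V := by rw [StMod.bmap_id]; exact le_rfl
  rw [res_twMod h F (indHom (ι.hom (P.obj z) a).hom.1) (𝟙 _) a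
    (by rw [CategoryTheory.Functor.map_id]; exact (Category.comp_id _).symm) hV hV' t, res_id F hV' le_rfl]
  exact congrArg _ (restr_self _ _ _)

theorem indTw_comap (G : StMod.Mod 𝒳) (hG : TwSh.IsTwisted G ι χ 1) :
    IndTw χ ι (StMod.Mod.comap (indIncl P.obj) G) := fun z a V hV t => by
  exact (res_comap G (indHom (o := P.obj) (z' := z) (z := z) (ι.hom (P.obj z) a).hom.1) hV t).trans
    ((res_autO G (P.obj z) (ι.hom (P.obj z) a) hV t).trans (hG (P.obj z) a V t))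

theorem hom_res {𝒵 : BasedCategory.{v', w} (Over S)} {G H : StMod.Mod 𝒵} (w₀ : G ⟶ H) {x' x : 𝒵.obj} (f : x' ⟶ x)
    {U : (StMod.sch 𝒵 x).Opens} {V : (StMod.sch 𝒵 x').Opens} (hV : V ≤ StMod.bmap 𝒵 f ⁻¹ᵁ U) (s : Γ(G.obj x, U)) :
    (w₀.app x').app V (res G f hV s) = res H f hV ((w₀.app x).app U s) := by
  have e := ConcreteCategory.congr_hom (congrArg (fun p => Scheme.Modules.Hom.app p U) (w₀.comm f rfl)) s
  refine (QCohLib.app_res (w₀.app x') hV _).trans ?_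
  exact congrArg _ e

theorem indTw_of_iso {G H : StMod.Mod (indCat P.obj)} (e : G ≅ H) (hG : IndTw χ ι G) : IndTw χ ι H := fun z a V hV t => by
  have h1 : t = (e.hom.app z).app V ((e.inv.app z).app V t) :=
    (congr($(congrArg (fun p => StMod.Mod.Hom.app p z) e.inv_hom_id).app V t)).symm
  rw [h1, ← hom_res e.hom, hG, Scheme.Modules.Hom.app_smul]

/-- Morphisms of twisted modules descend to the image. -/
theorem exists_hom_of_indTw (h : SecData ι π) (G H : StMod.Mod (indCat P.obj)) (hG : IndTw χ ι G) (hH : IndTw χ ι H)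
    (w₀ : StMod.Mod.comap (jFun P) G ⟶ StMod.Mod.comap (jFun P) H) :
    ∃ v : G ⟶ H, ∀ z, v.app z = w₀.app z := by
  refine ⟨⟨fun z => w₀.app z, fun {z' z} b g hg => ?_⟩, fun z => rfl⟩
  subst hg
  ext U s
  show (w₀.app z').app (StMod.bmap (indCat P.obj) b ⁻¹ᵁ U) ((G.map b rfl).app U s) =
    (H.map b rfl).app U ((w₀.app z).app U s)
  obtain ⟨φ, a, e⟩ := exists_decomp h b.hom
  let k : z' ⟶ z' := indHom (o := P.obj) (ι.hom (P.obj z') a).hom.1
  let q : z' ⟶ z := (jFun P).map φ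
  have hb : b = k ≫ q := InducedCategory.hom_ext e
  let V : (StMod.sch (indCat P.obj) z').Opens := StMod.bmap (indCat P.obj) b ⁻¹ᵁ U
  have hq : V ≤ StMod.bmap (indCat P.obj) q ⁻¹ᵁ U := by
    show StMod.bmap 𝒳 b.hom ⁻¹ᵁ U ≤ StMod.bmap 𝒳 (P.map φ) ⁻¹ᵁ U
    rw [bmap_decomp e]
  have hk : V ≤ StMod.bmap (indCat P.obj) k ⁻¹ᵁ V := by
    show V ≤ StMod.bmap 𝒳 (ι.hom (P.obj z') a).hom.1 ⁻¹ᵁ V
    rw [TwSh.bmap_autO]
    exact le_rfl
  have hkq : V ≤ StMod.bmap (indCat P.obj) (k ≫ q) ⁻¹ᵁ U := by rw [← hb]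
  have key : ∀ (K : StMod.Mod (indCat P.obj)) (x : Γ(K.obj z, U)),
      (K.map b rfl).app U x = res K k hk (res K q hq x) := fun K x => by
    rw [← res_comp K k q hq hk hkq, ← res_congr K hb le_rfl hkq]
    exact (restr_self _ le_rfl _).symm
  rw [key G s]
  erw [key H ((w₀.app z).app U s), hG z' a V hk, hH z' a V hk, Scheme.Modules.Hom.app_smul]
  refine congrArg _ ?_
  have := hom_res (𝒵 := pCat P) w₀ φ (V := V) hq s
  rw [res_comap_jFun G φ hq s] at this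
  exact this.trans (res_comap_jFun H φ hq _)

/-- Values of the section reach every object on a covering. -/
theorem nonempty_icover_section (h : SecData ι π) (x : 𝒳.obj) : Nonempty (ICover P.obj x) := by
  obtain ⟨e⟩ := h.iso
  let z₀ : D := π.obj x
  have hlift : (pCat P).p.IsHomLift (𝟙 (𝒳.p.obj (P.obj z₀))) (secIso e z₀).hom := e.hom.isHomLift' z₀
  obtain ⟨R, hR, hmem⟩ := h.hom (P.obj z₀) x (secIso e z₀).hom hlift
  obtain ⟨κ, Y, k, hk, hflat, hlfp, hcov⟩ := ASp.Cell.exists_fppf_family (T := 𝒳.p.obj (P.obj z₀)) (R := R) hR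
  choose x₀ f₁ f₂ hf₁ hf₂ _ using fun i => hmem (k i) (hk i)
  have hd : ∀ i, 𝒳.p.obj (x₀ i) = Y i := fun i => haveI := hf₁ i; IsHomLift.domain_eq 𝒳.p (k i) (f₁ i)
  have hd₂ : 𝒳.p.obj x = 𝒳.p.obj (P.obj z₀) := (π.w_obj x).symm
  have p₁ : ∀ i, 𝒳.p.map (f₁ i) = eqToHom (hd i) ≫ k i := fun i => by
    haveI := hf₁ i; simpa using IsHomLift.fac' 𝒳.p (k i) (f₁ i)
  have p₂ : ∀ i, 𝒳.p.map (f₂ i) = eqToHom (hd i) ≫ k i ≫ eqToHom hd₂.symm := fun i => by
    haveI := hf₂ i; simpa using IsHomLift.fac' 𝒳.p (k i) (f₂ i)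
  choose zz φ hφ using fun i => FibCat.IsFibGrpd.exists_lift (p := (pCat P).p) (x := z₀) (k i)
  have hdz : ∀ i, (pCat P).p.obj (zz i) = Y i := fun i => haveI := hφ i; IsHomLift.domain_eq (pCat P).p (k i) (φ i)
  have pφ : ∀ i, 𝒳.p.map (P.map (φ i)) = eqToHom (hdz i) ≫ k i := fun i => by
    haveI := hφ i; simpa using IsHomLift.fac' (pCat P).p (k i) (φ i)
  choose χ' hχ' _ using fun i => exists_fac_over (f₁ i) (P.map (φ i)) (eqToHom ((hdz i).trans (hd i).symm))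
    (by rw [p₁, pφ, eqToHom_trans_assoc])
  let g : ∀ i, P.obj (zz i) ⟶ x := fun i => χ' i ≫ f₂ i
  have hb : ∀ i, StMod.bmap 𝒳 (g i) = (eqToHom (hdz i)).left ≫ (k i).left ≫ (eqToHom hd₂.symm).left := fun i => by
    have h1 : 𝒳.p.map (g i) = eqToHom (hdz i) ≫ k i ≫ eqToHom hd₂.symm := by
      simp only [g, Functor.map_comp, hχ', p₂, eqToHom_trans_assoc]
    exact congrArg CommaMorphism.left h1
  haveI : ∀ {X Y : Over S} (h : X = Y), IsIso (eqToHom h).left := fun h =>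
    inferInstanceAs (IsIso ((Over.forget S).map (eqToHom h)))
  refine ⟨⟨κ, zz, g, fun i => ?_, fun i => ?_, fun t => ?_⟩⟩
  · rw [hb i]; haveI := hflat i; infer_instance
  · rw [hb i]; haveI := hlfp i; infer_instance
  · obtain ⟨t', ht'⟩ := (eqToHom hd₂.symm).left.surjective t
    obtain ⟨i, v, hv⟩ := hcov t'
    obtain ⟨v', hv'⟩ := (eqToHom (hdz i)).left.surjective v
    refine ⟨i, v', ?_⟩
    rw [hb i]
    show (eqToHom hd₂.symm).left ((k i).left ((eqToHom (hdz i)).left v')) = t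
    exact (congrArg (fun y => (eqToHom hd₂.symm).left ((k i).left y)) hv').trans
      ((congrArg (eqToHom hd₂.symm).left hv).trans ht')

/-- Twistedness is checked on the image. -/
theorem isTwisted_of_indTw (h : SecData ι π) (G : StMod.Mod 𝒳) (hG : StMod.isQCoh 𝒳 G)
    (htw : IndTw χ ι (StMod.Mod.comap (indIncl P.obj) G)) : TwSh.IsTwisted G ι χ 1 := fun x a U s => by
  obtain ⟨c⟩ := nonempty_icover_section h x
  refine eq_of_res_cover G hG c.toF _ _ fun i => ?_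
  let f := c.g i
  let a' := A.map (𝒳.p.map f).op a
  let α := (ι.hom (P.obj (c.z i)) a').hom.1
  let β := (ι.hom x a).hom.1
  let V := StMod.bmap 𝒳 f ⁻¹ᵁ U
  have hβ : U ≤ StMod.bmap 𝒳 β ⁻¹ᵁ U := by rw [TwSh.bmap_autO]; exact le_rfl
  have hα : V ≤ StMod.bmap 𝒳 α ⁻¹ᵁ V := by rw [TwSh.bmap_autO]; exact le_rfl
  have h1 : V ≤ StMod.bmap 𝒳 (f ≫ β) ⁻¹ᵁ U := by
    rw [StMod.bmap_comp, TwSh.bmap_autO, Category.comp_id]
  have h2 : V ≤ StMod.bmap 𝒳 (α ≫ f) ⁻¹ᵁ U := by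
    rw [StMod.bmap_comp, TwSh.bmap_autO, Category.id_comp]
  have e0 : (TwSh.inert G x (ι.hom x a)).app U s = res G β hβ s := by
    exact (res_autO G x (ι.hom x a) hβ s).symm
  show res G f le_rfl ((TwSh.inert G x (ι.hom x a)).app U s) =
    res G f le_rfl (TwSh.resTop (StMod.sch 𝒳 x) U (unitVal χ x a) • s)
  rw [e0, ← res_comp G f β hβ le_rfl h1, res_congr G (ι.natural f a).symm h1 h2, res_comp G α f le_rfl hα h2,
    res_smul, smul_appLE]
  refine ((res_comap G (indHom (o := P.obj) (z' := c.z i) (z := c.z i) α) hα _).symm.trans (htw (c.z i) a' V hα _)).trans ?_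
  exact congrArg (fun r => TwSh.resTop _ _ r • res G f le_rfl s) (unitVal_natural f a)

/-- Inverse image along a section identifies twisted modules with all modules. -/
theorem isEquivalence_section (h : SecData ι π) :
    ((TwSh.isTwistedQ 𝒳 ι χ 1).ι ⋙ StMod.comapQ (pFun P)).IsEquivalence := by
  let c : ∀ y, ICover P.obj y := fun y => (nonempty_icover_section h y).some
  have hfull : ((TwSh.isTwistedQ 𝒳 ι χ 1).ι ⋙ StMod.comapQ (pFun P)).Full := ⟨fun {G H} w₀ => by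
    let e := fun K : StMod.Mod 𝒳 => StMod.comapCompIso (indIncl P.obj) (jFun P) K
    obtain ⟨v₁, hv₁⟩ := exists_hom_of_indTw h _ _ (indTw_comap G.obj.obj G.property) (indTw_comap H.obj.obj H.property)
      ((e G.obj.obj).inv ≫ w₀.hom ≫ (e H.obj.obj).hom)
    obtain ⟨v₂, hv₂, -⟩ := existsUnique_hom' c G.obj.obj H.obj.obj H.obj.property v₁
    refine ⟨ObjectProperty.homMk (ObjectProperty.homMk v₂), ObjectProperty.hom_ext _ (StMod.Mod.hom_ext fun z => ?_)⟩
    have h2 : (StMod.Mod.comapMap (indIncl P.obj) v₂).app z = v₁.app z := by rw [hv₂]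
    exact h2.trans ((hv₁ z).trans (by ext U s; rfl))⟩
  have hfaith : ((TwSh.isTwistedQ 𝒳 ι χ 1).ι ⋙ StMod.comapQ (pFun P)).Faithful := ⟨fun {G H u₁ u₂} he => by
    obtain ⟨_, -, huniq⟩ := existsUnique_hom' c G.obj.obj H.obj.obj H.obj.property
      (StMod.Mod.comapMap (indIncl P.obj) u₁.hom.hom)
    refine ObjectProperty.hom_ext _ (ObjectProperty.hom_ext _ ((huniq u₁.hom.hom rfl).trans (huniq u₂.hom.hom ?_).symm))
    refine StMod.Mod.hom_ext fun z => ?_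
    have h' : StMod.Mod.comapMap (pFun P) u₁.hom.hom = StMod.Mod.comapMap (pFun P) u₂.hom.hom :=
      congrArg (fun p : ((TwSh.isTwistedQ 𝒳 ι χ 1).ι ⋙ StMod.comapQ (pFun P)).obj G ⟶ _ => p.hom) he
    have h'' : (StMod.Mod.comapMap (pFun P) u₁.hom.hom).app z = (StMod.Mod.comapMap (pFun P) u₂.hom.hom).app z := by
      rw [h']
    exact h''.symm⟩
  have hess : ((TwSh.isTwistedQ 𝒳 ι χ 1).ι ⋙ StMod.comapQ (pFun P)).EssSurj := ⟨fun F => by
    obtain ⟨G, hG, ⟨e⟩⟩ := exists_ext' (twMod χ h F.obj) (isQCoh_twMod h F.obj F.property) c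
    have htw := isTwisted_of_indTw h G hG (indTw_of_iso e (indTw_twMod h F.obj))
    exact ⟨⟨⟨G, hG⟩, htw⟩, ⟨ObjectProperty.isoMk _ (StMod.comapCompIso (indIncl P.obj) (jFun P) G ≪≫
      (StMod.comapFunctor (jFun P)).mapIso e.symm ≪≫ (twIso h F.obj).symm)⟩⟩⟩
  exact { }

end Groth.Agent.GerbeExtLib
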