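import Groth.Agent.GerbeExtLib.Ind
import Groth.Agent.GerbeExtLib.IsoDesc

/-!
# The module on an object glued from a covering by objects of the subcategory
-/

set_option autoImplicit false
set_option backward.isDefEq.respectTransparency false
set_option linter.style.haveILetI false
set_option linter.unusedSectionVars false
set_option maxHeartbeats 800000

universe w w' v' u

open CategoryTheory CategoryTheory.Limits AlgebraicGeometry TopologicalSpace Opposite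
open Groth.Agent.PullbackMod Groth.Agent.CohBase Groth.Agent.FpqcQCoh

noncomputable section

namespace Groth.Agent.GerbeExtLib

variable {S : Scheme.{u}} {𝒴 : BasedCategory.{v', w'} (Over S)} {O : Type w} {o : O → 𝒴.obj}
  [FibCat.IsFibGrpd (indCat o).p] [FibCat.IsFibGrpd 𝒴.p]
  (F : StMod.Mod (indCat o)) (hF : StMod.isQCoh (indCat o) F) {y : 𝒴.obj} (c : ICover o y)

/-- The scheme of a member of a covering. -/
abbrev cX (i : c.I) : Scheme.{u} := StMod.sch (indCat o) (c.z i)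

/-- The morphism of a member of a covering. -/
abbrev cf (i : c.I) : cX c i ⟶ StMod.sch 𝒴 y := StMod.bmap 𝒴 (c.g i)

/-- The identification on a scheme over two members, read on an object over them. -/
def cθ {T : Scheme.{u}} {i j : c.I} (a : T ⟶ cX c i) (b : T ⟶ cX c j) (e : a ≫ cf c i = b ≫ cf c j) :
    (Scheme.Modules.pullback a).obj (F.obj (c.z i)) ⟶ (Scheme.Modules.pullback b).obj (F.obj (c.z j)) :=
  let h := exists_roof (c.g i) (c.g j) a b e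
  haveI := isIso_cA F hF.1 h.choose_spec.choose_spec.choose_spec.choose h.choose_spec.choose.hom b
    h.choose_spec.choose_spec.choose_spec.choose_spec.2.1
  cA F h.choose_spec.choose_spec.choose h.choose_spec.choose.hom a
      h.choose_spec.choose_spec.choose_spec.choose_spec.1 ≫
    inv (cA F h.choose_spec.choose_spec.choose_spec.choose h.choose_spec.choose.hom b
      h.choose_spec.choose_spec.choose_spec.choose_spec.2.1)

theorem cθ_comp_cA {T : Scheme.{u}} {i j : c.I} (a : T ⟶ cX c i) (b : T ⟶ cX c j) (e : a ≫ cf c i = b ≫ cf c j)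
    {z : (indCat o).obj} (e' : T ⟶ StMod.sch (indCat o) z) (φ : z ⟶ c.z i) (ψ : z ⟶ c.z j)
    (hφ : e' ≫ StMod.bmap (indCat o) φ = a) (hψ : e' ≫ StMod.bmap (indCat o) ψ = b)
    (hc : φ.hom ≫ c.g i = ψ.hom ≫ c.g j) :
    cθ F hF c a b e ≫ cA F ψ e' b hψ = cA F φ e' a hφ := by
  set h := exists_roof (c.g i) (c.g j) a b e with hh
  let z₀ := h.choose
  let e₀ := h.choose_spec.choose
  let φ₀ := h.choose_spec.choose_spec.choose
  let ψ₀ := h.choose_spec.choose_spec.choose_spec.choose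
  have s1 : e₀.hom ≫ StMod.bmap (indCat o) φ₀ = a := h.choose_spec.choose_spec.choose_spec.choose_spec.1
  have s2 : e₀.hom ≫ StMod.bmap (indCat o) ψ₀ = b := h.choose_spec.choose_spec.choose_spec.choose_spec.2.1
  have s3 : φ₀.hom ≫ c.g i = ψ₀.hom ≫ c.g j := h.choose_spec.choose_spec.choose_spec.choose_spec.2.2
  obtain ⟨m, hm, hm'⟩ := exists_fac φ φ₀ (e₀.inv ≫ e') (by
    rw [Category.assoc, hφ]; exact (Iso.inv_comp_eq _).2 s1.symm)
  have hme : e₀.hom ≫ StMod.bmap (indCat o) m = e' := by rw [hm, Iso.hom_inv_id_assoc]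
  have hψ₀ : m ≫ ψ = ψ₀ := by
    refine ind_hom_ext (hom_ext (c.g j) ?_ ?_)
    · show StMod.bmap (indCat o) (m ≫ ψ) = StMod.bmap (indCat o) ψ₀
      rw [StMod.bmap_comp, hm, Category.assoc, hψ]; exact (Iso.inv_comp_eq _).2 s2.symm
    · show (m.hom ≫ ψ.hom) ≫ c.g j = ψ₀.hom ≫ c.g j
      rw [Category.assoc, ← hc, ← Category.assoc, show m.hom ≫ φ.hom = φ₀.hom from congrArg (·.hom) hm', s3]
  haveI := isIso_cA F hF.1 ψ₀ e₀.hom b s2
  haveI := isIso_cA F hF.1 m e₀.hom e' hme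
  haveI := isIso_cA F hF.1 ψ e' b hψ
  have h1 : cA F φ₀ e₀.hom a s1 = cA F φ e' a hφ ≫ cA F m e₀.hom e' hme := by
    rw [← cA_comp]
    clear_value φ₀
    subst hm'
    rfl
  have h2 : cA F ψ₀ e₀.hom b s2 = cA F ψ e' b hψ ≫ cA F m e₀.hom e' hme := by
    rw [← cA_comp]
    clear_value ψ₀
    subst hψ₀
    rfl
  show (cA F φ₀ e₀.hom a s1 ≫ inv (cA F ψ₀ e₀.hom b s2)) ≫ _ = _
  rw [← cancel_mono (cA F m e₀.hom e' hme), Category.assoc, ← h2, Category.assoc, IsIso.inv_hom_id,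
    Category.comp_id, h1]

theorem cθ_natural : ∀ ⦃T T' : Scheme.{u}⦄ (g : T' ⟶ T) (h : T ⟶ StMod.sch 𝒴 y) (h' : T' ⟶ StMod.sch 𝒴 y)
    (_ : g ≫ h = h') ⦃i j : c.I⦄ (a : T ⟶ cX c i) (b : T ⟶ cX c j) (ea : a ≫ cf c i = h) (eb : b ≫ cf c j = h)
    (a' : T' ⟶ cX c i) (b' : T' ⟶ cX c j) (ha : g ≫ a = a') (hb : g ≫ b = b') (ea' : a' ≫ cf c i = h')
    (eb' : b' ≫ cf c j = h'),
    cθ F hF c a b (ea.trans eb.symm) ≫ vMap (F.obj (c.z j)) g hb =
      vMap (F.obj (c.z i)) g ha ≫ (Scheme.Modules.pushforward g).map (cθ F hF c a' b' (ea'.trans eb'.symm)) := by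
  intro T T' g h h' eh i j a b ea eb a' b' ha hb ea' eb'
  obtain ⟨z, e, φ, ψ, hφ, hψ, hc⟩ := exists_roof (c.g i) (c.g j) a b (ea.trans eb.symm)
  haveI := isIso_cA F hF.1 ψ e.hom b hψ
  haveI := isIso_cA F hF.1 ψ (g ≫ e.hom) b' (by rw [Category.assoc, hψ, hb])
  have hφ' : (g ≫ e.hom) ≫ StMod.bmap (indCat o) φ = a' := by rw [Category.assoc, hφ, ha]
  have hψ' : (g ≫ e.hom) ≫ StMod.bmap (indCat o) ψ = b' := by rw [Category.assoc, hψ, hb]
  have e1 := cθ_comp_cA F hF c a b (ea.trans eb.symm) e.hom φ ψ hφ hψ hc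
  have e2 := cθ_comp_cA F hF c a' b' (ea'.trans eb'.symm) (g ≫ e.hom) φ ψ hφ' hψ' hc
  have n1 := cA_vMap F φ g e.hom a hφ (g ≫ e.hom) rfl a' ha
  have n2 := cA_vMap F ψ g e.hom b hψ (g ≫ e.hom) rfl b' hb
  show cθ F hF c a b _ ≫ _ = _ ≫ (Scheme.Modules.pushforward g).map (cθ F hF c a' b' _)
  rw [← cancel_mono ((Scheme.Modules.pushforward g).map (cA F ψ (g ≫ e.hom) b' hψ')), Category.assoc,
    Category.assoc, ← Functor.map_comp, e2, ← n1, ← n2, ← Category.assoc, e1]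

theorem cθ_self : ∀ ⦃T : Scheme.{u}⦄ (h : T ⟶ StMod.sch 𝒴 y) ⦃i : c.I⦄ (a : T ⟶ cX c i) (e : a ≫ cf c i = h),
    cθ F hF c a a (e.trans e.symm) = 𝟙 _ := by
  intro T h i a e
  obtain ⟨z, e₀, φ, hφ⟩ := exists_lift (𝒵 := indCat o) (c.z i) a
  haveI := isIso_cA F hF.1 φ e₀.hom a hφ
  rw [← cancel_mono (cA F φ e₀.hom a hφ), Category.id_comp]
  exact cθ_comp_cA F hF c a a rfl e₀.hom φ φ hφ hφ rfl

theorem cθ_trans : ∀ ⦃T : Scheme.{u}⦄ (h : T ⟶ StMod.sch 𝒴 y) ⦃i j l : c.I⦄ (a : T ⟶ cX c i) (b : T ⟶ cX c j)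
    (d : T ⟶ cX c l) (ea : a ≫ cf c i = h) (eb : b ≫ cf c j = h) (ed : d ≫ cf c l = h),
    cθ F hF c a b (ea.trans eb.symm) ≫ cθ F hF c b d (eb.trans ed.symm) = cθ F hF c a d (ea.trans ed.symm) := by
  intro T h i j l a b d ea eb ed
  obtain ⟨z, e, φ, ψ, hφ, hψ, hc⟩ := exists_roof (c.g i) (c.g j) a b (ea.trans eb.symm)
  obtain ⟨χ, hχ, hχ'⟩ := exists_fac (c.g l) (φ.hom ≫ c.g i) (e.inv ≫ d) (by
    rw [Category.assoc, ed.trans ea.symm, ← hφ, StMod.bmap_comp, Category.assoc, Iso.inv_hom_id_assoc]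
    rfl)
  have hd : e.hom ≫ StMod.bmap (indCat o) (indHom (o := o) χ) = d := by
    show e.hom ≫ StMod.bmap 𝒴 χ = d
    rw [hχ, Iso.hom_inv_id_assoc]
  haveI := isIso_cA F hF.1 (indHom (o := o) χ) e.hom d hd
  rw [← cancel_mono (cA F (indHom (o := o) χ) e.hom d hd), Category.assoc]
  erw [cθ_comp_cA F hF c b d (eb.trans ed.symm) e.hom ψ _ hψ hd (hc.symm.trans hχ'.symm),
    cθ_comp_cA F hF c a b (ea.trans eb.symm) e.hom φ ψ hφ hψ hc,
    cθ_comp_cA F hF c a d (ea.trans ed.symm) e.hom φ _ hφ hd hχ'.symm]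


/-- The gluing system of a covering. -/
def cSys : FamilyDesc.Sys (cf c) where
  obj i := F.obj (c.z i)
  qcoh i := hF.2 _
  θ _ _ _ _ a b ea eb := cθ F hF c a b (ea.trans eb.symm)
  natural := cθ_natural F hF c
  θ_self := cθ_self F hF c
  θ_comp := cθ_trans F hF c

theorem rel_cSys_iff {T : Scheme.{u}} {i j : c.I} (a : T ⟶ cX c i) (b : T ⟶ cX c j)
    (e : b ≫ cf c j = a ≫ cf c i) {U : (cX c i).Opens} {U' : (cX c j).Opens} {V : T.Opens} (ha : V ≤ a ⁻¹ᵁ U)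
    (hb : V ≤ b ⁻¹ᵁ U') (s : Γ(F.obj (c.z i), U)) (t : Γ(F.obj (c.z j), U')) :
    FamilyDesc.Rel (cSys F hF c) a b e V ha hb s t ↔
      (cθ F hF c a b e.symm).app V (pullMap a (F.obj (c.z i)) ha s) = pullMap b (F.obj (c.z j)) hb t := Iff.rfl

/-- The glued module. -/
def extObj : (StMod.sch 𝒴 y).Modules := FamilyDesc.glued (cSys F hF c)

theorem isQCoh_extObj : Coh.IsQCoh (extObj F hF c) := FamilyDesc.isQCoh_glued _ c.toF.mem_fpqc

/-- The value of a section on a member. -/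
def pr (i : c.I) {U : (StMod.sch 𝒴 y).Opens} (m : Γ(extObj F hF c, U)) : Γ(F.obj (c.z i), cf c i ⁻¹ᵁ U) :=
  (FamilyDesc.π (cSys F hF c) i).app U m

theorem pr_ext {U : (StMod.sch 𝒴 y).Opens} {m m' : Γ(extObj F hF c, U)}
    (h : ∀ i, pr F hF c i m = pr F hF c i m') : m = m' := Subtype.ext (funext h)

/-- The values of a section agree where two members meet. -/
theorem res_pr {U : (StMod.sch 𝒴 y).Opens} (m : Γ(extObj F hF c, U)) {i j : c.I} {z : (indCat o).obj}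
    (φ : z ⟶ c.z i) (ψ : z ⟶ c.z j) (hc : φ.hom ≫ c.g i = ψ.hom ≫ c.g j)
    {V : (StMod.sch (indCat o) z).Opens} (hφ : V ≤ StMod.bmap (indCat o) φ ⁻¹ᵁ cf c i ⁻¹ᵁ U)
    (hψ : V ≤ StMod.bmap (indCat o) ψ ⁻¹ᵁ cf c j ⁻¹ᵁ U) :
    res F φ hφ (pr F hF c i m) = res F ψ hψ (pr F hF c j m) := by
  have ew : StMod.bmap (indCat o) φ ≫ cf c i = StMod.bmap (indCat o) ψ ≫ cf c j :=
    (StMod.bmap_comp φ.hom (c.g i)).symm.trans ((congrArg (StMod.bmap 𝒴) hc).trans (StMod.bmap_comp _ _))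
  have g := FamilyDesc.glued_at' (D := cSys F hF c) m (i := i) (j := j) (le_refl (cf c i ⁻¹ᵁ U)) (le_refl _)
    (StMod.sch (indCat o) z) (StMod.bmap (indCat o) φ) (StMod.bmap (indCat o) ψ) ew.symm V hφ hψ
  have g1 : (cθ F hF c (StMod.bmap (indCat o) φ) (StMod.bmap (indCat o) ψ) ew).app V
      (pullMap (StMod.bmap (indCat o) φ) (F.obj (c.z i)) hφ (pr F hF c i m)) =
      pullMap (StMod.bmap (indCat o) ψ) (F.obj (c.z j)) hψ (pr F hF c j m) := by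
    have h := (rel_cSys_iff F hF c _ _ ew.symm hφ hψ _ _).1 g
    rwa [show FamilyDesc.at' (D := cSys F hF c) m i (le_refl (cf c i ⁻¹ᵁ U)) = pr F hF c i m from restr_self _ _ _,
      show FamilyDesc.at' (D := cSys F hF c) m j (le_refl (cf c j ⁻¹ᵁ U)) = pr F hF c j m from restr_self _ _ _] at h
  have e1 := cθ_comp_cA F hF c (StMod.bmap (indCat o) φ) (StMod.bmap (indCat o) ψ) ew (𝟙 _) φ ψ
    (Category.id_comp _) (Category.id_comp _) hc
  have g2 := congrArg ((cA F ψ (𝟙 _) (StMod.bmap (indCat o) ψ) (Category.id_comp _)).app V) g1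
  rw [cA_pullMap F ψ (𝟙 _) _ _ hψ (le_refl V) hψ, ← ConcreteCategory.comp_apply, ← Scheme.Modules.Hom.comp_app, e1,
    cA_pullMap F φ (𝟙 _) _ _ hφ (le_refl V) hφ] at g2
  exact injective_pullMap_id _ g2

/-- Agreeing values give a section. -/
theorem exists_of_pr {U : (StMod.sch 𝒴 y).Opens} (s : ∀ i, Γ(F.obj (c.z i), cf c i ⁻¹ᵁ U))
    (hs : ∀ (i j : c.I) (z : (indCat o).obj) (φ : z ⟶ c.z i) (ψ : z ⟶ c.z j), φ.hom ≫ c.g i = ψ.hom ≫ c.g j →
      ∀ (V : (StMod.sch (indCat o) z).Opens) (hφ : V ≤ StMod.bmap (indCat o) φ ⁻¹ᵁ cf c i ⁻¹ᵁ U)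
        (hψ : V ≤ StMod.bmap (indCat o) ψ ⁻¹ᵁ cf c j ⁻¹ᵁ U), res F φ hφ (s i) = res F ψ hψ (s j)) :
    ∃ m : Γ(extObj F hF c, U), ∀ i, pr F hF c i m = s i := by
  refine ⟨⟨s, fun i j T a b e V ha hb => (rel_cSys_iff F hF c a b e ha hb (s i) (s j)).2 ?_⟩, fun i => rfl⟩
  obtain ⟨z, e₀, φ, ψ, hφ, hψ, hc⟩ := exists_roof (c.g i) (c.g j) a b e.symm
  haveI := isIso_cA F hF.1 ψ e₀.hom b hψ
  apply (ConcreteCategory.bijective_of_isIso ((cA F ψ e₀.hom b hψ).app V)).1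
  rw [← ConcreteCategory.comp_apply, ← Scheme.Modules.Hom.comp_app, cθ_comp_cA F hF c a b _ e₀.hom φ ψ hφ hψ hc]
  let O' := StMod.bmap (indCat o) φ ⁻¹ᵁ cf c i ⁻¹ᵁ U ⊓ StMod.bmap (indCat o) ψ ⁻¹ᵁ cf c j ⁻¹ᵁ U
  have hV : V ≤ e₀.hom ⁻¹ᵁ O' := fun v hv =>
    ⟨show StMod.bmap (indCat o) φ (e₀.hom v) ∈ cf c i ⁻¹ᵁ U by rw [← Scheme.Hom.comp_apply, hφ]; exact ha hv,
      show StMod.bmap (indCat o) ψ (e₀.hom v) ∈ cf c j ⁻¹ᵁ U by rw [← Scheme.Hom.comp_apply, hψ]; exact hb hv⟩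
  rw [cA_pullMap F φ e₀.hom a hφ (inf_le_left : O' ≤ _) hV, cA_pullMap F ψ e₀.hom b hψ (inf_le_right : O' ≤ _) hV]
  exact congrArg _ (hs i j z φ ψ hc O' _ _)

end Groth.Agent.GerbeExtLib
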